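import Cfsg.Agent.Lib.ExtraThirtyTwo.Eight.Facts
import Cfsg.Agent.Lib.ExtraThirtyTwo.Setup3
import Cfsg.Agent.Lib.Invol.Counting

/-!
# A frame of the first type, with its codes
-/

set_option autoImplicit false

noncomputable section

namespace CfsgLib.ExtraThirtyTwo.Eight

open CfsgLib.MTwelveInvol (mulC onec)

variable {G : Type*} [Group G]

/-- A frame of the first type. -/
structure Oct (s a b x u : G) : Prop where
  frame : ∃ Q : Subgroup G, Frame s Q a b x u false false
  ss : s * s = 1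
  sne : s ≠ 1

/-- The substitution behind a change of generators. -/
def sub (σ : List (List ℕ)) (i : ℕ) : List ℕ := σ.getD i []

theorem ev_flatMap {K : Type*} [Group K] {v v' : ℕ → K} (σ : ℕ → List ℕ) : ∀ l : List ℕ,
    (∀ i ∈ l, v' i = ev v (σ i)) → ev v' l = ev v (l.flatMap σ)
  | [], _ => rfl
  | i :: l, h => by
    rw [ev_cons, List.flatMap_cons, ev_append, h i List.mem_cons_self,
      ev_flatMap σ l fun j hj => h j (List.mem_cons_of_mem _ hj)]

theorem rules_lt : ∀ r ∈ allRules false false, (∀ i ∈ r.1, i < 7) ∧ ∀ i ∈ r.2, i < 7 := by decide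

/-- A change of generators. -/
theorem Oct.change {s a b x u a' b' u' : G} (O : Oct s a b x u) (σ τ : List (List ℕ))
    (hv : ∀ i < 7, vals s a' b' x u' i = ev (vals s a b x u) (sub σ i))
    (h1 : ∀ r ∈ allRules false false, norm (allRules false false) 100 (r.1.flatMap (sub σ)) =
      norm (allRules false false) 100 (r.2.flatMap (sub σ)))
    (h2 : ∀ i ∈ List.range 5, ∀ j ∈ sub σ i, j < 5)
    (h3 : ∀ i ∈ List.range 7, (∀ j ∈ sub τ i, j < 7) ∧
      norm (allRules false false) 100 ((sub τ i).flatMap (sub σ)) = [i]) :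
    Oct s a' b' x u' := by
  obtain ⟨Q, F⟩ := O.frame
  refine ⟨⟨Q, ⟨fun r hr => ?_, fun i => ?_, fun i hi => ?_, fun g hg => ?_, F.card⟩⟩, O.ss, O.sne⟩
  · rw [ev_flatMap _ _ fun i hi => hv i ((rules_lt r hr).1 i hi),
      ev_flatMap _ _ fun i hi => hv i ((rules_lt r hr).2 i hi),
      ← F.rules.norm 100, h1 r hr, F.rules.norm]
  · rcases Nat.lt_or_ge i 7 with hi | hi
    · rw [hv i hi]; exact F.ev_comm _
    · obtain ⟨n, rfl⟩ : ∃ n, i = n + 7 := ⟨i - 7, by omega⟩
      show (1 : G) * s = s * 1; simp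
  · rw [hv i (by omega)]
    refine list_prod_mem fun y hy => ?_
    obtain ⟨j, hj, rfl⟩ := List.mem_map.1 hy
    exact F.mem j (h2 i (List.mem_range.2 hi) j hj)
  · refine (Subgroup.closure_le (K := Subgroup.closure {y | ∃ i < 7, vals s a' b' x u' i = y})).2 ?_
      (F.gen g hg)
    rintro y ⟨i, hi, rfl⟩
    obtain ⟨hlt, he⟩ := h3 i (List.mem_range.2 hi)
    rw [← ev_single (vals s a b x u) i, ← he, F.rules.norm,
      ← ev_flatMap _ _ fun j hj => hv j (hlt j hj)]
    refine list_prod_mem fun z hz => ?_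
    obtain ⟨j, hj, rfl⟩ := List.mem_map.1 hz
    exact Subgroup.subset_closure ⟨j, hlt j hj, rfl⟩

variable {s a b x u : G}

/-- The exchange of the two pairs. -/
theorem Oct.symm (O : Oct s a b x u) : Oct s b a x u := by
  refine O.change [[0], [3], [4], [1], [2], [5], [6]] [[0], [3], [4], [1], [2], [5], [6]]
    (fun i hi => ?_) (by decide +kernel) (by decide +kernel) (by decide +kernel)
  interval_cases i <;> simp [sub, ev, vals]

/-- The third pair in place of the second. -/
theorem Oct.toThird (O : Oct s a b x u) : Oct s a (third s a b) x u := by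
  refine O.change [[0], [1], [2], [0, 1, 3], [0, 2, 4], [5], [6]]
    [[0], [1], [2], [0, 1, 3], [0, 2, 4], [5], [6]]
    (fun i hi => ?_) (by decide +kernel) (by decide +kernel) (by decide +kernel)
  obtain ⟨Q, F⟩ := O.frame
  have hxs : x * s * x⁻¹ = s := by rw [show x * s = s * x from F.comm 5, mul_inv_cancel_right]
  have hi' : i = 0 ∨ i = 1 ∨ i = 2 ∨ i = 3 ∨ i = 4 ∨ i = 5 ∨ i = 6 := by omega
  rcases hi' with rfl | rfl | rfl | rfl | rfl | rfl | rfl
  all_goals simp only [sub, List.getD_cons_zero, List.getD_cons_succ, ev, vals, List.map_cons,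
    List.map_nil, List.prod_cons, List.prod_nil, mul_one, third, mul_assoc]
  rw [show x * (s * (a * (b * x⁻¹))) = x * s * x⁻¹ * ((x * a * x⁻¹) * (x * b * x⁻¹)) by group, hxs]
  group

/-- The other involution in the coset of `u`. -/
theorem Oct.twist (O : Oct s a b x u) : Oct s a b x (u * s) := by
  refine O.change [[0], [1], [2], [3], [4], [5], [6, 0]] [[0], [1], [2], [3], [4], [5], [6, 0]]
    (fun i hi => ?_) (by decide +kernel) (by decide +kernel) (by decide +kernel)
  interval_cases i <;> simp [sub, ev, vals]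

variable [Finite G]

theorem Oct.exists_code (O : Oct s a b x u) :
    ∃ D : Coded s L, ∀ i < 7, D.code (vals s a b x u i) = evC gens [i] := by
  obtain ⟨Q, F⟩ := O.frame
  exact F.exists_coded perm gens L perm_code eval_rules eval_nodup eval_sub eval_sup

/-- The codes. -/
def Oct.D (O : Oct s a b x u) : Coded s L := O.exists_code.choose

variable (O : Oct s a b x u)
include O

theorem Oct.code_gen {i : ℕ} (hi : i < 7) : O.D.code (vals s a b x u i) = gens.getD i onec := by
  rw [show O.D.code (vals s a b x u i) = evC gens [i] from O.exists_code.choose_spec i hi]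
  exact congrArg (fun l : List ℕ => l.getD i onec) gens_values |>.symm |> fun e => by
    rw [e]; simp [List.getD_eq_getElem?_getD, List.getElem?_map, List.getElem?_range hi]

theorem Oct.code_s : O.D.code s = sc := O.code_gen (i := 0) (by norm_num)
theorem Oct.code_a : O.D.code a = ac := O.code_gen (i := 1) (by norm_num)
theorem Oct.code_a1 : O.D.code (x * a * x⁻¹) = a1c := O.code_gen (i := 2) (by norm_num)
theorem Oct.code_b : O.D.code b = bc := O.code_gen (i := 3) (by norm_num)
theorem Oct.code_b1 : O.D.code (x * b * x⁻¹) = b1c := O.code_gen (i := 4) (by norm_num)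
theorem Oct.code_x : O.D.code x = xc := O.code_gen (i := 5) (by norm_num)
theorem Oct.code_u : O.D.code u = uc := O.code_gen (i := 6) (by norm_num)

omit [Finite G] in
theorem Oct.comms : (∀ i, vals s a b x u i * s = s * vals s a b x u i) := by
  obtain ⟨Q, F⟩ := O.frame
  exact F.comm

omit [Finite G] in
theorem Oct.a_s : a * s = s * a := O.comms 1
omit [Finite G] in
theorem Oct.b_s : b * s = s * b := O.comms 3
omit [Finite G] in
theorem Oct.u_s : u * s = s * u := O.comms 6
omit [Finite G] in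
theorem Oct.a1_s : x * a * x⁻¹ * s = s * (x * a * x⁻¹) := O.comms 2
omit [Finite G] in
theorem Oct.b1_s : x * b * x⁻¹ * s = s * (x * b * x⁻¹) := O.comms 4
omit [Finite G] in
theorem Oct.c_s : third s a b * s = s * third s a b := O.toThird.comms 3

theorem Oct.code_c : O.D.code (third s a b) = cc := by
  have hsa : s * a * s = s * (s * a) := Coded.comm_mul (s := s) rfl O.a_s
  rw [third, O.D.mul _ _ hsa O.b_s, O.D.mul _ _ rfl O.a_s, O.code_s, O.code_a, O.code_b]
  decide +kernel

theorem Oct.code_us : O.D.code (u * s) = mulC uc sc := by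
  rw [O.D.mul _ _ O.u_s rfl, O.code_u, O.code_s]

theorem Oct.el_sc : O.D.el sc = s := (O.D.eq_el rfl O.code_s).symm
theorem Oct.el_ac : O.D.el ac = a := (O.D.eq_el O.a_s O.code_a).symm
theorem Oct.el_bc : O.D.el bc = b := (O.D.eq_el O.b_s O.code_b).symm
theorem Oct.el_cc : O.D.el cc = third s a b := (O.D.eq_el O.c_s O.code_c).symm
theorem Oct.el_uc : O.D.el uc = u := (O.D.eq_el O.u_s O.code_u).symm
theorem Oct.el_usc : O.D.el (mulC uc sc) = u * s :=
  (O.D.eq_el (Coded.comm_mul O.u_s rfl) O.code_us).symm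

theorem Oct.order_two {g : G} (hg : g * s = s * g)
    (h : O.D.code g ∈ sc :: (Xa ++ Xb ++ Xc ++ T ++ U)) : orderOf g = 2 := by
  obtain ⟨-, h2, h1⟩ := cls_sub _ h
  exact CfsgLib.Invol.orderOf_eq_two_iff'.2
    ⟨fun e => h1 ((O.D.eq_one_iff hg).2 e), (O.D.sq_one_iff hg).1 h2⟩

theorem Oct.cls {g : G} (hg : g * s = s * g) (h2 : g * g = 1) (h1 : g ≠ 1) :
    O.D.code g ∈ sc :: (Xa ++ Xb ++ Xc ++ T ++ U) :=
  (invol_cls _ (O.D.mem g hg) ((O.D.sq_one_iff hg).2 h2)).resolve_left
    fun e => h1 ((O.D.eq_one_iff hg).1 e)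

theorem Oct.conj_rep {g r : G} (hg : g * s = s * g) (hr : r * s = s * r)
    (h : ∃ k ∈ L, mulC k (O.D.code r) = mulC (O.D.code g) k) :
    ∃ k, k * s = s * k ∧ k * r * k⁻¹ = g := by
  obtain ⟨k, hk, e⟩ := h
  refine ⟨O.D.el k, O.D.el_comm k, mul_inv_eq_iff_eq_mul.2 ?_⟩
  refine O.D.inj _ _ (Coded.comm_mul (O.D.el_comm k) hr) (Coded.comm_mul hg (O.D.el_comm k)) ?_
  rw [O.D.mul _ _ (O.D.el_comm k) hr, O.D.mul _ _ hg (O.D.el_comm k), O.D.code_el hk, e]

/-- Every involution of the centralizer is conjugate to one of six. -/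
theorem Oct.six {g : G} (hg : g * s = s * g) (h2 : g * g = 1) (h1 : g ≠ 1) :
    g = s ∨ IsConj a g ∨ IsConj b g ∨ IsConj (third s a b) g ∨ IsConj u g ∨ IsConj (u * s) g := by
  have key : ∀ (r : G) (hr : r * s = s * r) (rc : ℕ), O.D.code r = rc →
      (∃ k ∈ L, mulC k rc = mulC (O.D.code g) k) → IsConj r g := fun r hr rc e h => by
    obtain ⟨k, -, hk⟩ := O.conj_rep hg hr (e.symm ▸ h)
    exact isConj_iff.2 ⟨k, hk⟩
  have h := O.cls hg h2 h1
  simp only [List.mem_cons, List.mem_append] at h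
  rcases h with h | (((h | h) | h) | h) | h
  · exact Or.inl (O.D.inj _ _ hg rfl (h.trans O.code_s.symm))
  · exact Or.inr (Or.inl (key a O.a_s ac O.code_a (conj_Xa _ h)))
  · exact Or.inr (Or.inr (Or.inl (key b O.b_s bc O.code_b (conj_Xb _ h))))
  · exact Or.inr (Or.inr (Or.inr (Or.inl (key _ O.c_s cc O.code_c (conj_Xc _ h)))))
  · exact Or.inr (Or.inr (Or.inr (Or.inr (Or.inl (key u O.u_s uc O.code_u (conj_T _ h))))))
  · exact Or.inr (Or.inr (Or.inr (Or.inr (Or.inr (key _ (Coded.comm_mul O.u_s rfl) _ O.code_us (conj_U _ h))))))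

/-- The elements of the centralizer commuting with `y`, as codes. -/
theorem Oct.card_com {y : G} (hy : y * s = s * y) :
    Nat.card (Subgroup.centralizer ({s} : Set G) ⊓ Subgroup.centralizer ({y} : Set G) : Subgroup G) =
      (cent (O.D.code y)).length := by
  classical
  rw [cent, ← List.toFinset_card_of_nodup (L_nodup.filter _), ← Nat.card_eq_finsetCard]
  have hm : ∀ g : G, g ∈ (Subgroup.centralizer ({s} : Set G) ⊓ Subgroup.centralizer ({y} : Set G)) ↔
      g * s = s * g ∧ g * y = y * g := fun g => by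
    rw [Subgroup.mem_inf, Subgroup.mem_centralizer_singleton_iff, Subgroup.mem_centralizer_singleton_iff]
  refine Nat.card_eq_of_bijective (fun g => ⟨O.D.code g.1, List.mem_toFinset.2 (List.mem_filter.2
    ⟨O.D.mem _ ((hm _).1 g.2).1, beq_iff_eq.2 ((O.D.com_iff ((hm _).1 g.2).1 hy).2 ((hm _).1 g.2).2)⟩)⟩)
    ⟨?_, ?_⟩
  · intro g h he
    exact Subtype.ext (O.D.inj _ _ ((hm _).1 g.2).1 ((hm _).1 h.2).1 (congrArg Subtype.val he))
  · rintro ⟨c, hc⟩
    obtain ⟨hcL, hcy⟩ := List.mem_filter.1 (List.mem_toFinset.1 hc)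
    refine ⟨⟨O.D.el c, (hm _).2 ⟨O.D.el_comm c, ?_⟩⟩, Subtype.ext (O.D.code_el hcL)⟩
    exact (O.D.com_iff (O.D.el_comm c) hy).1 (by rw [O.D.code_el hcL]; exact beq_iff_eq.1 hcy)

theorem Oct.card_cent : Nat.card (Subgroup.centralizer ({s} : Set G)) = 192 := by
  obtain ⟨Q, F⟩ := O.frame
  exact F.card

end CfsgLib.ExtraThirtyTwo.Eight
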