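import Cfsg.Agent.Lib.ExtraThirtyTwo.Eight.Ea
import Cfsg.Agent.Lib.Invol.ZStarFinal
import Cfsg.Agent.Lib.Cores.Basic

/-!
# One class of pairs fused: the subgroup of order eight is normal
-/

set_option autoImplicit false

noncomputable section

open Cfsg

namespace CfsgLib.ExtraThirtyTwo.Eight

open CfsgLib.MTwelveInvol (mulC onec)

variable {G : Type*} [Group G] [Finite G] {s a b x u : G} (O : Oct s a b x u)

theorem inverts_of_fixed {K : Type*} [Group K] [Finite K] (N : Subgroup K) [N.Normal] {t : K}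
    (ht : t * t = 1) (h : ∀ o ∈ N, o * t = t * o → o = 1) : ∀ k ∈ N, t * k * t⁻¹ = k⁻¹ := by
  let f : N → N := fun k => ⟨(k : K)⁻¹ * (t * k * t⁻¹),
    mul_mem (inv_mem k.2) (Subgroup.Normal.conj_mem inferInstance _ k.2 t)⟩
  have hf : Function.Injective f := by
    intro k l he
    have e : (k : K)⁻¹ * (t * k * t⁻¹) = (l : K)⁻¹ * (t * l * t⁻¹) := congrArg Subtype.val he
    have h2 : (l : K) * (k : K)⁻¹ = 1 := by
      refine h _ (mul_mem l.2 (inv_mem k.2)) ?_
      calc (l : K) * (k : K)⁻¹ * t = l * ((k : K)⁻¹ * (t * k * t⁻¹)) * t * (k : K)⁻¹ := by group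
        _ = l * ((l : K)⁻¹ * (t * l * t⁻¹)) * t * (k : K)⁻¹ := by rw [e]
        _ = _ := by group
    exact Subtype.ext (mul_inv_eq_one.1 h2).symm
  intro k hk
  obtain ⟨l, hl⟩ := Finite.surjective_of_injective hf ⟨k, hk⟩
  have hl' : (l : K)⁻¹ * (t * l * t⁻¹) = k := congrArg Subtype.val hl
  have hti : t⁻¹ = t := inv_eq_of_mul_eq_one_right ht
  rw [← hl', mul_inv_rev, inv_inv, mul_inv_rev, mul_inv_rev, inv_inv, hti]
  calc t * ((l : K)⁻¹ * (t * l * t)) * t = t * (l : K)⁻¹ * t * l * (t * t) := by group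
    _ = t * ((l : K)⁻¹ * t) * l := by rw [ht, mul_one]; group

theorem eq_one_of_odd_core {K : Type*} [Group K] [Finite K] {o : K} (ho : o ∈ oddCore K) {m : ℕ}
    (hm : orderOf o ∣ 2 ^ m) : o = 1 := by
  have h2 : orderOf o ∣ Nat.card (oddCore K) := by
    have h := orderOf_dvd_natCard (⟨o, ho⟩ : oddCore K)
    rwa [Subgroup.orderOf_mk] at h
  exact orderOf_eq_one_iff.1 (Nat.eq_one_of_dvd_coprimes
    (((CfsgLib.Cores.odd_card_oddCore (G := K)).coprime_two_right).pow_right m) h2 hm)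

/-- One class of pairs is fused to `s`. -/
structure One (O : Oct s a b x u) : Prop where
  hfa : IsConj s a
  hfb : ¬ IsConj s b
  hfc : ¬ IsConj s (third s a b)
  hu : IsConj b u
  hus : IsConj (third s a b) (u * s)

variable {O} (H : One O)
include H

omit H in
theorem Oct.conj_cls {g r : G} (hg : g * s = s * g) (hr : r * s = s * r) {rc : ℕ} (hrc : O.D.code r = rc)
    (h : ∃ k ∈ L, mulC k rc = mulC (O.D.code g) k) : IsConj r g := by
  obtain ⟨k, -, hk⟩ := O.conj_rep hg hr (hrc.symm ▸ h)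
  exact isConj_iff.2 ⟨k, hk⟩

/-- The conjugates of `s` in its centralizer. -/
theorem One.fused_cls {v : G} (hv : v * s = s * v) (hc : IsConj s v) :
    v = s ∨ O.D.code v ∈ Xa := by
  obtain ⟨k, rfl⟩ := isConj_iff.1 hc
  have h := O.cls hv (by rw [show k * s * k⁻¹ * (k * s * k⁻¹) = k * (s * s) * k⁻¹ by group, O.ss]; group)
    (fun e => O.sne (conj_eq_one_iff.1 e))
  simp only [List.mem_cons, List.mem_append] at h
  rcases h with h | (((h | h) | h) | h) | h
  · exact Or.inl (O.D.inj _ _ hv rfl (h.trans O.code_s.symm))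
  · exact Or.inr h
  · exact absurd (hc.trans (O.conj_cls hv O.b_s O.code_b (conj_Xb _ h)).symm) H.hfb
  · exact absurd (hc.trans (O.conj_cls hv O.c_s O.code_c (conj_Xc _ h)).symm) H.hfc
  · exact absurd ((hc.trans (O.conj_cls hv O.u_s O.code_u (conj_T _ h)).symm).trans H.hu.symm) H.hfb
  · exact absurd ((hc.trans (O.conj_cls hv (Coded.comm_mul O.u_s rfl) O.code_us (conj_U _ h)).symm).trans
      H.hus.symm) H.hfc

theorem One.comm_orbit {y : G} (hy : y * s = s * y) (hys : ¬ IsConj s y) (hy2 : y * y = 1) (hy1 : y ≠ 1) :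
    IsConj b y ∨ IsConj (third s a b) y := by
  rcases O.six hy hy2 hy1 with h | h | h | h | h | h
  · exact absurd (h ▸ IsConj.refl y) hys
  · exact absurd (H.hfa.trans h) hys
  · exact Or.inl h
  · exact Or.inr h
  · exact Or.inl (H.hu.trans h)
  · exact Or.inr (H.hus.trans h)

omit H in
/-- Hypotheses on a partner. -/
structure Partner (O : Oct s a b x u) (y : G) : Prop where
  ys : y * s = s * y
  y2 : y * y = 1
  nfus : ¬ IsConj s y
  len : (cent (O.D.code y)).length = 32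
  centre : ∀ c ∈ cent (O.D.code y), (∀ q ∈ cent (O.D.code y), mulC c q = mulC q c) →
      c ∈ [onec, sc, O.D.code y, mulC sc (O.D.code y)]
  sy : IsConj y (s * y)
  tie : ∃ c ∈ Xa, mulC c (O.D.code y) = mulC (O.D.code y) c

omit H in
theorem sq_of_code (O : Oct s a b x u) {y : G} (hy : y * s = s * y)
    (h : mulC (O.D.code y) (O.D.code y) = onec) : y * y = 1 := (O.D.sq_one_iff hy).1 h

omit H in
theorem conj_sy (O : Oct s a b x u) {y : G} (hy : y * s = s * y)
    (h : ∃ k ∈ L, mulC k (O.D.code y) = mulC (mulC sc (O.D.code y)) k) : IsConj y (s * y) :=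
  O.conj_cls (Coded.comm_mul (s := s) rfl hy) hy rfl (by rw [O.D.mul _ _ rfl hy, O.code_s]; exact h)

theorem One.partner_b : Partner O b :=
  ⟨O.b_s, sq_of_code O O.b_s (by rw [O.code_b]; decide +kernel), H.hfb,
    by rw [O.code_b]; exact cent_length.2.1, by rw [O.code_b]; exact center_bc,
    conj_sy O O.b_s (by rw [O.code_b]; decide +kernel), by rw [O.code_b]; decide +kernel⟩

theorem One.partner_c : Partner O (third s a b) :=
  ⟨O.c_s, sq_of_code O O.c_s (by rw [O.code_c]; decide +kernel), H.hfc,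
    by rw [O.code_c]; exact cent_length.2.2.1, by rw [O.code_c]; exact center_cc,
    conj_sy O O.c_s (by rw [O.code_c]; decide +kernel), by rw [O.code_c]; decide +kernel⟩

omit H in
theorem Partner.ne_one {y : G} (P : Partner O y) : y ≠ 1 := fun e => by
  have h := P.len
  rw [e, O.D.code_one] at h
  exact absurd h (by decide +kernel)

omit H in
/-- The elements of `C(s)` commuting with `y`. -/
def Ry (s y : G) : Subgroup G := Subgroup.centralizer ({s} : Set G) ⊓ Subgroup.centralizer ({y} : Set G)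

omit H in
theorem mem_Ry {s y g : G} : g ∈ Ry s y ↔ g * s = s * g ∧ g * y = y * g := by
  rw [Ry, Subgroup.mem_inf, Subgroup.mem_centralizer_singleton_iff, Subgroup.mem_centralizer_singleton_iff]

omit H in
/-- An element mapping the group of one partner onto that of another sends `s` to its centre. -/
theorem Partner.centre_map {y w : G} (P : Partner O y) {n : G}
    (h1 : ∀ p ∈ Ry s w, n * p * n⁻¹ ∈ Ry s y) (h2 : ∀ p ∈ Ry s y, n⁻¹ * p * n ∈ Ry s w)
    (hw : w * s = s * w) :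
    n * s * n⁻¹ = s ∨ n * s * n⁻¹ = y ∨ n * s * n⁻¹ = s * y := by
  have hv := mem_Ry.1 (h1 s (mem_Ry.2 ⟨rfl, hw.symm⟩))
  have hcl : O.D.code (n * s * n⁻¹) ∈ cent (O.D.code y) :=
    List.mem_filter.2 ⟨O.D.mem _ hv.1, beq_iff_eq.2 ((O.D.com_iff hv.1 P.ys).2 hv.2)⟩
  have hc := P.centre _ hcl fun q hq => by
    obtain ⟨hqL, hqy⟩ := List.mem_filter.1 hq
    have hqR : O.D.el q ∈ Ry s y := mem_Ry.2 ⟨O.D.el_comm q, (O.D.com_iff (O.D.el_comm q) P.ys).1
      (by rw [O.D.code_el hqL]; exact beq_iff_eq.1 hqy)⟩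
    have hz : n⁻¹ * O.D.el q * n * s = s * (n⁻¹ * O.D.el q * n) := (mem_Ry.1 (h2 _ hqR)).1
    have h := (O.D.com_iff hv.1 (O.D.el_comm q)).2 (by
      calc n * s * n⁻¹ * O.D.el q = n * (s * (n⁻¹ * O.D.el q * n)) * n⁻¹ := by group
        _ = n * (n⁻¹ * O.D.el q * n * s) * n⁻¹ := by rw [hz]
        _ = _ := by group)
    rwa [O.D.code_el hqL] at h
  simp only [List.mem_cons, List.not_mem_nil, or_false] at hc
  rcases hc with h | h | h | h
  · exact absurd (conj_eq_one_iff.1 ((O.D.eq_one_iff hv.1).1 h)) O.sne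
  · exact Or.inl (O.D.inj _ _ hv.1 rfl (h.trans O.code_s.symm))
  · exact Or.inr (Or.inl (O.D.inj _ _ hv.1 P.ys h))
  · exact Or.inr (Or.inr (O.D.inj _ _ hv.1 (Coded.comm_mul (s := s) rfl P.ys)
      (h.trans (by rw [O.D.mul _ _ rfl P.ys, O.code_s]))))

omit H in
theorem Partner.card_R {y : G} (P : Partner O y) : Nat.card (Ry s y) = 2 ^ 5 := by
  show Nat.card (Subgroup.centralizer ({s} : Set G) ⊓ Subgroup.centralizer ({y} : Set G) : Subgroup G) = _
  rw [O.card_com P.ys, P.len]; norm_num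

omit H in
theorem Partner.syl {y : G} (P : Partner O y) :
    ¬ 2 ^ 6 ∣ Nat.card (Subgroup.centralizer ({y} : Set G)) := by
  intro hd
  obtain ⟨n, hnD, hnR, h1, h2⟩ := exists_normalizing (R := Ry s y) inf_le_right P.card_R hd
  have hny := Subgroup.mem_centralizer_singleton_iff.1 hnD
  rcases P.centre_map h1 h2 P.ys with h | h | h
  · exact hnR (mem_Ry.2 ⟨mul_inv_eq_iff_eq_mul.1 h, hny⟩)
  · exact P.nfus (isConj_iff.2 ⟨n, h⟩)
  · exact P.nfus ((isConj_iff.2 ⟨n, h⟩).trans P.sy.symm)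

theorem One.b_not_c : ¬ IsConj b (third s a b) := by
  intro hc
  haveI : Fact (Nat.Prime 2) := ⟨Nat.prime_two⟩
  obtain ⟨k, hk⟩ := isConj_iff.1 hc
  set c := third s a b
  set K := Subgroup.centralizer ({c} : Set G) with hK
  have P := H.partner_c
  have hcon : ∀ g : G, g ∈ Ry s b → k * g * k⁻¹ ∈ K := fun g hg => by
    rw [hK, Subgroup.mem_centralizer_singleton_iff, ← hk]
    exact ((Commute.conj_iff k).2 (mem_Ry.1 hg).2).eq
  set A := (Ry s b).map (MulAut.conj k).toMonoidHom with hA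
  have hAK : A ≤ K := by rintro _ ⟨g, hg, rfl⟩; exact hcon g hg
  have hAc : Nat.card (A.subgroupOf K) = 2 ^ 5 := by
    rw [Nat.card_congr (Subgroup.subgroupOfEquivOfLe hAK).toEquiv, hA,
      Subgroup.card_map_of_injective (MulAut.conj k).injective, H.partner_b.card_R]
  have hRK : Ry s c ≤ K := inf_le_right
  have hRc : Nat.card ((Ry s c).subgroupOf K) = 2 ^ 5 := by
    rw [Nat.card_congr (Subgroup.subgroupOfEquivOfLe hRK).toEquiv, P.card_R]
  have syl : ∀ (U : Subgroup K), Nat.card U = 2 ^ 5 → ∃ S : Sylow 2 K, (S : Subgroup K) = U := by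
    intro U hU
    obtain ⟨S, hS⟩ := (IsPGroup.of_card (p := 2) (n := 5) hU).exists_le_sylow
    refine ⟨S, (Subgroup.eq_of_le_of_card_ge hS ?_).symm⟩
    obtain ⟨m, hm⟩ := IsPGroup.iff_card.1 S.2
    rw [hU, hm]
    refine Nat.pow_le_pow_right (by norm_num) ?_
    by_contra hlt
    refine P.syl ((pow_dvd_pow 2 (show 6 ≤ m by omega)).trans ?_)
    rw [← hm]; exact Subgroup.card_subgroup_dvd_card _
  obtain ⟨SA, hSA⟩ := syl _ hAc
  obtain ⟨SR, hSR⟩ := syl _ hRc
  obtain ⟨l, hl⟩ := MulAction.exists_smul_eq K SA SR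
  have hlc := Subgroup.mem_centralizer_singleton_iff.1 l.2
  set m : G := (l : G) * k with hm
  have hmb : m * b * m⁻¹ = c := by
    rw [hm, show (l : G) * k * b * ((l : G) * k)⁻¹ = (l : G) * (k * b * k⁻¹) * (l : G)⁻¹ by group, hk,
      hlc, mul_inv_cancel_right]
  have e : ∀ g : K, g ∈ (Ry s c).subgroupOf K ↔ l⁻¹ * g * l ∈ A.subgroupOf K := by
    intro g
    rw [← hSR, ← hl, Sylow.coe_subgroup_smul, Subgroup.mem_pointwise_smul_iff_inv_smul_mem, hSA]
    simp [MulAut.inv_apply, MulAut.conj_symm_apply, mul_assoc]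
  have h1 : ∀ p ∈ Ry s b, m * p * m⁻¹ ∈ Ry s c := fun p hp => by
    have hp' : k * p * k⁻¹ ∈ A := ⟨p, hp, rfl⟩
    have h := (e (l * ⟨_, hAK hp'⟩ * l⁻¹)).2 (by simpa [mul_assoc, Subgroup.mem_subgroupOf] using hp')
    rw [Subgroup.mem_subgroupOf] at h
    rw [hm, show (l : G) * k * p * ((l : G) * k)⁻¹ = (l : G) * (k * p * k⁻¹) * (l : G)⁻¹ by group]
    exact h
  have h2 : ∀ p ∈ Ry s c, m⁻¹ * p * m ∈ Ry s b := fun p hp => by
    obtain ⟨q, hq, hqe⟩ := (e ⟨p, hRK hp⟩).1 hp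
    have hqe' : k * q * k⁻¹ = (l : G)⁻¹ * p * l := hqe
    rw [hm, show ((l : G) * k)⁻¹ * p * ((l : G) * k) = k⁻¹ * ((l : G)⁻¹ * p * l) * k by group, ← hqe',
      show k⁻¹ * (k * q * k⁻¹) * k = q by group]
    exact hq
  rcases P.centre_map h1 h2 O.b_s with h | h | h
  · have hms : m * s = s * m := mul_inv_eq_iff_eq_mul.1 h
    refine (not_conj _ (O.D.mem m hms)).1 ?_
    rw [← O.code_b, ← O.code_c, ← O.D.mul _ _ hms O.b_s, ← O.D.mul _ _ O.c_s hms,
      mul_inv_eq_iff_eq_mul.1 hmb]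
  · exact H.hfc (isConj_iff.2 ⟨m, h⟩)
  · exact H.hfc ((isConj_iff.2 ⟨m, h⟩).trans P.sy.symm)

theorem One.cent_le {y : G} (P : Partner O y)
    (hfix : ∀ v : G, v * s = s * v → O.D.code v ∈ Xa → v * y = y * v → ¬ IsConj y (v * y)) :
    ∀ k, k * y = y * k → k * s = s * k := by
  classical
  set D : Subgroup G := Subgroup.centralizer ({y} : Set G) with hD
  have hmD : ∀ g : G, g ∈ D ↔ g * y = y * g := fun g => by
    rw [hD, Subgroup.mem_centralizer_singleton_iff]
  let z : D := ⟨s, (hmD s).2 P.ys.symm⟩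
  have hiso : IsIsolatedInvolution z := by
    refine ⟨by rw [Subgroup.orderOf_mk]; exact CfsgLib.Invol.orderOf_eq_two_iff'.2 ⟨O.sne, O.ss⟩,
      fun g hg => ?_⟩
    have hvs : (g : G) * s * (g : G)⁻¹ * s = s * ((g : G) * s * (g : G)⁻¹) :=
      (congrArg Subtype.val hg.eq).symm
    rcases H.fused_cls hvs (isConj_iff.2 ⟨g, rfl⟩) with h | h
    · exact Subtype.ext h
    · refine absurd (P.sy.trans (isConj_iff.2 ⟨g, ?_⟩)) (hfix _ hvs h ((hmD _).1 (g * z * g⁻¹).2))
      rw [show (g : G) * (s * y) * (g : G)⁻¹ = (g : G) * s * (g : G)⁻¹ * ((g : G) * y * (g : G)⁻¹) by group,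
        show (g : G) * y * (g : G)⁻¹ = y by rw [(hmD _).1 g.2, mul_inv_cancel_right]]
  haveI hOn : (oddCore D).Normal := by
    have := CfsgLib.Cores.pPrimeCore_characteristic (G := D) 2
    infer_instance
  have small : ∀ (w : G), w * s = s * w → (∃ m, (cent (O.D.code w)).length = 2 ^ m) → ∀ g : G,
      g * s = s * g → g * w = w * g → ∃ m, orderOf g ∣ 2 ^ m := by
    intro w hw hm g hgs hgw
    obtain ⟨m, hm⟩ := hm
    refine ⟨m, ?_⟩
    have h := orderOf_dvd_natCard (⟨g, mem_Ry.2 ⟨hgs, hgw⟩⟩ : Ry s w)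
    rwa [Subgroup.orderOf_mk, show Nat.card (Ry s w) = (cent (O.D.code w)).length from O.card_com hw, hm] at h
  have fixOne : ∀ t : G, IsConj s t → (t * y = y * t) → ∀ o ∈ oddCore D,
      (o : G) * t = t * (o : G) → o = 1 := by
    intro t ht hty o ho hot
    obtain ⟨h, rfl⟩ := isConj_iff.1 ht
    set w := h⁻¹ * y * h with hw
    have hws : w * s = s * w := by
      calc w * s = h⁻¹ * (y * (h * s * h⁻¹)) * h := by rw [hw]; group
        _ = h⁻¹ * (h * s * h⁻¹ * y) * h := by rw [hty]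
        _ = _ := by rw [hw]; group
    have hyw : IsConj y w := isConj_iff.2 ⟨h⁻¹, by rw [hw]; group⟩
    have hos : h⁻¹ * (o : G) * h * s = s * (h⁻¹ * (o : G) * h) := by
      calc h⁻¹ * (o : G) * h * s = h⁻¹ * ((o : G) * (h * s * h⁻¹)) * h := by group
        _ = h⁻¹ * (h * s * h⁻¹ * (o : G)) * h := by rw [hot]
        _ = _ := by group
    have how : h⁻¹ * (o : G) * h * w = w * (h⁻¹ * (o : G) * h) := by
      calc h⁻¹ * (o : G) * h * w = h⁻¹ * ((o : G) * y) * h := by rw [hw]; group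
        _ = h⁻¹ * (y * (o : G)) * h := by rw [(hmD _).1 o.2]
        _ = _ := by rw [hw]; group
    have hlen : ∃ m, (cent (O.D.code w)).length = 2 ^ m := by
      have h := O.cls hws (by rw [hw, show h⁻¹ * y * h * (h⁻¹ * y * h) = h⁻¹ * (y * y) * h by group, P.y2]; group)
        (fun e => P.ne_one (by rw [show y = h * w * h⁻¹ by rw [hw]; group, e]; group))
      simp only [List.mem_cons, List.mem_append] at h
      have big : ∀ c ∈ Xb ++ Xc ++ T ++ U, ∃ m, (cent c).length = 2 ^ m := fun c hc =>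
        (cent_length.2.2.2 c hc).elim (fun e => ⟨5, by rw [e]; norm_num⟩) (fun e => ⟨4, by rw [e]; norm_num⟩)
      rcases h with h | (((h | h) | h) | h) | h
      · exact absurd ((show IsConj s w from (O.D.inj _ _ hws rfl (h.trans O.code_s.symm)) ▸ IsConj.refl s).trans
          hyw.symm) P.nfus
      · exact absurd ((H.hfa.trans (O.conj_cls hws O.a_s O.code_a (conj_Xa _ h))).trans hyw.symm) P.nfus
      all_goals exact big _ (by simp [h])
    obtain ⟨m, hm⟩ := small w hws hlen _ hos how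
    refine eq_one_of_odd_core ho (m := m) ?_
    rw [← Subgroup.orderOf_coe]
    have e : orderOf (h⁻¹ * (o : G) * h) = orderOf (o : G) := by
      conv_lhs => rw [show h⁻¹ * (o : G) * h = h⁻¹ * (o : G) * (h⁻¹)⁻¹ by rw [inv_inv]]
      exact CfsgLib.Invol.orderOf_conj_eq _ _
    exact e ▸ hm
  obtain ⟨c, hcX, hcy⟩ := P.tie
  have hcL : c ∈ L := (cls_sub c (by simp [hcX])).1
  set a' := O.D.el c with ha'
  have ha's := O.D.el_comm c
  have ha'y : a' * y = y * a' := (O.D.com_iff ha's P.ys).1 (by rw [O.D.code_el hcL]; exact hcy)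
  have hsa' : s * a' * s = s * (s * a') := Coded.comm_mul (s := s) rfl ha's
  have conjA : ∀ p, p * s = s * p → O.D.code p ∈ Xa → IsConj s p := fun p hp h =>
    H.hfa.trans (O.conj_cls hp O.a_s O.code_a (conj_Xa _ h))
  have ha'2 : a' * a' = 1 := (O.D.sq_one_iff ha's).1 (by
    rw [O.D.code_el hcL]; exact (cls_sub c (by simp [hcX])).2.1)
  have hsa'y : s * a' * y = y * (s * a') := by rw [mul_assoc, ha'y, ← mul_assoc, ← P.ys, mul_assoc]
  let A : D := ⟨a', (hmD _).2 ha'y⟩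
  let B : D := ⟨s * a', (hmD _).2 hsa'y⟩
  have invA := inverts_of_fixed (oddCore D) (t := A) (Subtype.ext ha'2)
    fun o ho h => fixOne a' (conjA _ ha's (by rw [O.D.code_el hcL]; exact hcX)) ha'y o ho (congrArg Subtype.val h)
  have invB := inverts_of_fixed (oddCore D) (t := B) (Subtype.ext (by
      show s * a' * (s * a') = 1
      rw [show s * a' * (s * a') = s * (a' * s) * a' by group, ha's,
        show s * (s * a') * a' = s * s * (a' * a') by group, O.ss, ha'2, one_mul]))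
    fun o ho h => fixOne (s * a') (conjA _ hsa' (by
      rw [O.D.mul _ _ rfl ha's, O.code_s, O.D.code_el hcL]
      exact (show ∀ c ∈ Xa, mulC sc c ∈ Xa by decide +kernel) c hcX)) hsa'y o ho (congrArg Subtype.val h)
  have invZ := inverts_of_fixed (oddCore D) (t := z) (Subtype.ext O.ss)
    fun o ho h => fixOne s (IsConj.refl s) P.ys.symm o ho (congrArg Subtype.val h)
  have hzAB : z = B * A := Subtype.ext (by
    show s = s * a' * a'
    rw [mul_assoc, ha'2, mul_one])
  have hO : oddCore D = ⊥ := by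
    rw [Subgroup.eq_bot_iff_forall]
    intro o ho
    have h1 : z * o * z⁻¹ = o := by
      rw [hzAB, show B * A * o * (B * A)⁻¹ = B * (A * o * A⁻¹) * B⁻¹ by group, invA o ho,
        invB _ (inv_mem ho), inv_inv]
    rw [invZ o ho] at h1
    refine eq_one_of_odd_core ho (m := 1) (orderOf_dvd_of_pow_eq_one ?_)
    rw [pow_one, pow_two]
    nth_rewrite 1 [← h1]
    exact inv_mul_cancel o
  exact fun k hk => congrArg Subtype.val
    (Subgroup.mem_center_iff.1 (CfsgLib.Invol.zstar_center hiso hO) ⟨k, (hmD k).2 hk⟩)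

theorem One.cent_b : ∀ k, k * b = b * k → k * s = s * k := by
  refine H.cent_le H.partner_b fun v hv hX hvb h => H.b_not_c ?_
  refine h.trans (O.conj_cls (Coded.comm_mul hv O.b_s) O.c_s O.code_c (conj_Xc _ ?_)).symm
  rw [O.D.mul _ _ hv O.b_s, O.code_b]
  exact prod_bc _ hX (by rw [← O.code_b]; exact (O.D.com_iff hv O.b_s).2 hvb)

theorem One.cent_c : ∀ k, k * third s a b = third s a b * k → k * s = s * k := by
  refine H.cent_le H.partner_c fun v hv hX hvc h => H.b_not_c ?_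
  refine (h.trans (O.conj_cls (Coded.comm_mul hv O.c_s) O.b_s O.code_b (conj_Xb _ ?_)).symm).symm
  rw [O.D.mul _ _ hv O.c_s, O.code_c]
  exact prod_cc _ hX (by rw [← O.code_c]; exact (O.D.com_iff hv O.c_s).2 hvc)

/-- Two commuting members of the class of `s` lie in one block. -/
theorem One.comm_trans {p q r : G} (hq : IsConj s q) (hp : IsConj s p) (hr : IsConj s r)
    (hpq : p * q = q * p) (hqr : q * r = r * q) : p * r = r * p := by
  obtain ⟨k, rfl⟩ := isConj_iff.1 hq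
  have inE : ∀ t, IsConj s t → t * (k * s * k⁻¹) = k * s * k⁻¹ * t → k⁻¹ * t * k ∈ Ea s a x := by
    intro t ht htc
    have hts : k⁻¹ * t * k * s = s * (k⁻¹ * t * k) := by
      calc k⁻¹ * t * k * s = k⁻¹ * (t * (k * s * k⁻¹)) * k := by group
        _ = k⁻¹ * (k * s * k⁻¹ * t) * k := by rw [htc]
        _ = _ := by group
    refine O.mem_Ea.2 ⟨hts, ?_⟩
    rcases H.fused_cls hts (ht.trans (isConj_iff.2 ⟨k⁻¹, by group⟩)) with h | h
    · rw [h, O.code_s]; decide +kernel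
    · exact List.mem_cons_of_mem _ (List.mem_cons_of_mem _ h)
  have h := O.Ea_comm (inE p hp hpq) (inE r hr hqr.symm)
  calc p * r = k * (k⁻¹ * p * k * (k⁻¹ * r * k)) * k⁻¹ := by group
    _ = k * (k⁻¹ * r * k * (k⁻¹ * p * k)) * k⁻¹ := by rw [h]
    _ = _ := by group

/-- All conjugates of `s` commute with `s`. -/
theorem One.all_comm {z : G} (hz : IsConj s z) : z * s = s * z := by
  classical
  let M : Submonoid G :=
    { carrier := {g | ∀ p, IsConj s p → g * p * g⁻¹ * p = p * (g * p * g⁻¹)}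
      one_mem' := fun p _ => by simp
      mul_mem' := fun {g h} hg hh p hp => by
        have hq : IsConj s (h * p * h⁻¹) := hp.trans (isConj_iff.2 ⟨h, rfl⟩)
        have hgq : IsConj s (g * (h * p * h⁻¹) * g⁻¹) := hq.trans (isConj_iff.2 ⟨g, rfl⟩)
        rw [show g * h * p * (g * h)⁻¹ = g * (h * p * h⁻¹) * g⁻¹ by group]
        exact H.comm_trans hq hgq hp (hg _ hq) (hh p hp) }
  have hinv : ∀ g ∈ M, g⁻¹ ∈ M := fun g hg => by
    obtain ⟨n, hn⟩ : ∃ n : ℕ, g⁻¹ = g ^ n := ⟨orderOf g - 1, by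
      rw [inv_eq_iff_mul_eq_one, ← pow_succ', Nat.sub_add_cancel (orderOf_pos g), pow_orderOf_eq_one]⟩
    exact hn ▸ pow_mem hg n
  have hconj : ∀ g k : G, g ∈ M → k * g * k⁻¹ ∈ M := fun g k hg p hp => by
    have hq := hg _ (hp.trans (isConj_iff.2 ⟨k⁻¹, rfl⟩))
    have h' := ((Commute.conj_iff k).2 hq).eq
    calc k * g * k⁻¹ * p * (k * g * k⁻¹)⁻¹ * p
        = k * (g * (k⁻¹ * p * k⁻¹⁻¹) * g⁻¹) * k⁻¹ * (k * (k⁻¹ * p * k⁻¹⁻¹) * k⁻¹) := by group
      _ = k * (k⁻¹ * p * k⁻¹⁻¹) * k⁻¹ * (k * (g * (k⁻¹ * p * k⁻¹⁻¹) * g⁻¹) * k⁻¹) := h'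
      _ = _ := by group
  have hbM : b ∈ M := by
    intro p hp
    have hp2 : orderOf p = 2 := by
      rw [← CfsgLib.Invol.orderOf_eq_of_isConj hp]
      exact CfsgLib.Invol.orderOf_eq_two_iff'.2 ⟨O.sne, O.ss⟩
    obtain ⟨i, hi, hib, hip, -⟩ := CfsgLib.Invol.exists_common_involution (x := b)
      (CfsgLib.Invol.orderOf_eq_two_iff'.2 ⟨H.partner_b.ne_one, H.partner_b.y2⟩) hp2
      (fun h => H.hfb (hp.trans h.symm))
    have hbp : IsConj s (b * p * b⁻¹) := hp.trans (isConj_iff.2 ⟨b, rfl⟩)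
    have finish : ∀ w, IsConj s w → w * b = b * w → w * p = p * w →
        b * p * b⁻¹ * p = p * (b * p * b⁻¹) := fun w hw hwb hwp => by
      refine H.comm_trans hw hbp hp ?_ hwp
      have h := ((Commute.conj_iff b).2 hwp.symm).eq
      rwa [show b * w * b⁻¹ = w by rw [← hwb, mul_inv_cancel_right]] at h
    by_cases hic : IsConj s i
    · exact finish i hic hib.eq hip.eq
    · obtain ⟨k, hk⟩ := isConj_iff.1 hp.symm
      have his : k * i * k⁻¹ * s = s * (k * i * k⁻¹) := by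
        rw [← hk]; exact ((Commute.conj_iff k).2 hip.eq).eq
      have hi' : orderOf (k * i * k⁻¹) = 2 := by rw [CfsgLib.Invol.orderOf_conj_eq, hi]
      have key : ∀ y, (∀ g, g * y = y * g → g * s = s * g) → IsConj y (k * i * k⁻¹) →
          b * p * b⁻¹ * p = p * (b * p * b⁻¹) := by
        intro y hy hyi
        obtain ⟨l, hl⟩ := isConj_iff.1 hyi
        set m := k⁻¹ * l with hm
        have hmy : m * y * m⁻¹ = i := by
          rw [hm, show k⁻¹ * l * y * (k⁻¹ * l)⁻¹ = k⁻¹ * (l * y * l⁻¹) * k by group, hl]; group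
        have hC : ∀ g, g * i = i * g → m * s * m⁻¹ * g = g * (m * s * m⁻¹) := fun g hg => by
          have h1 : m⁻¹ * g * m * y = y * (m⁻¹ * g * m) := by
            calc m⁻¹ * g * m * y = m⁻¹ * (g * (m * y * m⁻¹)) * m := by group
              _ = m⁻¹ * (m * y * m⁻¹ * g) * m := by rw [hmy, hg]
              _ = _ := by group
          calc m * s * m⁻¹ * g = m * (s * (m⁻¹ * g * m)) * m⁻¹ := by group
            _ = m * (m⁻¹ * g * m * s) * m⁻¹ := by rw [hy _ h1]
            _ = _ := by group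
        exact finish _ (isConj_iff.2 ⟨m, rfl⟩) (hC b hib.eq.symm) (hC p hip.eq.symm)
      rcases H.comm_orbit his (fun e => hic (e.trans (isConj_iff.2 ⟨k⁻¹, by group⟩)))
        (CfsgLib.Invol.mul_self_of_orderOf_two hi') (CfsgLib.Invol.ne_one_of_orderOf_two hi') with h | h
      · exact key b H.cent_b h
      · exact key _ H.cent_c h
  have hb2 := H.partner_b.y2
  have hsM : s ∈ M := by
    have hca1 := O.a1_s
    have e : s = b * (x * a * x⁻¹ * b * (x * a * x⁻¹)⁻¹) := by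
      refine O.D.inj _ _ rfl (Coded.comm_mul O.b_s (Coded.comm_mul (Coded.comm_mul hca1 O.b_s)
        (Coded.comm_inv hca1))) ?_
      have h2 : (x * a * x⁻¹)⁻¹ = x * a * x⁻¹ := inv_eq_of_mul_eq_one_right (O.Ea_sq O.gens_mem.2.2)
      rw [h2, O.D.mul _ _ O.b_s (Coded.comm_mul (Coded.comm_mul hca1 O.b_s) hca1),
        O.D.mul _ _ (Coded.comm_mul hca1 O.b_s) hca1, O.D.mul _ _ hca1 O.b_s, O.code_s, O.code_b, O.code_a1]
      decide +kernel
    rw [e]
    exact mul_mem hbM (hconj b _ hbM)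
  obtain ⟨k, rfl⟩ := isConj_iff.1 hz
  have hzs := hconj s k hsM s (IsConj.refl s)
  set z := k * s * k⁻¹ with hzd
  set y := z * s * z⁻¹ with hy
  have hzi : z⁻¹ = z := inv_eq_of_mul_eq_one_right (by
    rw [hzd, show k * s * k⁻¹ * (k * s * k⁻¹) = k * (s * s) * k⁻¹ by group, O.ss]; group)
  by_cases hys : y = s
  · exact mul_inv_eq_iff_eq_mul.1 (hy.symm.trans hys)
  set w := y * s with hw
  have hzy : z * y * z⁻¹ = s := by
    rw [hy, show z * (z * s * z⁻¹) * z⁻¹ = z * z * s * (z * z)⁻¹ by group,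
      show z * z = 1 by nth_rewrite 1 [← hzi]; exact inv_mul_cancel z]
    group
  have hzw : z * w = w * z := by
    refine mul_inv_eq_iff_eq_mul.1 ?_
    rw [hw, show z * (y * s) * z⁻¹ = z * y * z⁻¹ * (z * s * z⁻¹) by group, hzy, ← hy]
    exact hzs.symm.trans hw
  have hyE : y ∈ Ea s a x := by
    refine O.mem_Ea.2 ⟨hzs, ?_⟩
    rcases H.fused_cls hzs (isConj_iff.2 ⟨z, rfl⟩) with h | h
    · exact absurd h hys
    · exact List.mem_cons_of_mem _ (List.mem_cons_of_mem _ h)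
  have hwE : w ∈ Ea s a x := mul_mem hyE O.gens_mem.1
  have hw1 : w ≠ 1 := fun e => hys (by
    have := mul_eq_one_iff_eq_inv.1 e
    rwa [inv_eq_of_mul_eq_one_right O.ss] at this)
  obtain ⟨l, -, hl⟩ := O.Ea_trans H.hfa hwE hw1
  exact H.comm_trans (isConj_iff.2 ⟨l, hl⟩) hz (IsConj.refl s) hzw (O.Ea_comm hwE O.gens_mem.1)

/-- The subgroup of order eight is normal, and the order is 1344. -/
theorem One.normal : (Ea s a x).Normal ∧ Nat.card G = 1344 := by
  classical
  have hK : ∀ z, IsConj s z ↔ z ∈ Ea s a x ∧ z ≠ 1 := fun z => by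
    constructor
    · intro hz
      have hzs := H.all_comm hz
      refine ⟨?_, fun e => O.sne (by obtain ⟨k, hk⟩ := isConj_iff.1 hz; exact conj_eq_one_iff.1 (hk.trans e))⟩
      refine O.mem_Ea.2 ⟨hzs, ?_⟩
      rcases H.fused_cls hzs hz with h | h
      · rw [h, O.code_s]; decide +kernel
      · exact List.mem_cons_of_mem _ (List.mem_cons_of_mem _ h)
    · rintro ⟨hz, hz1⟩
      obtain ⟨k, -, hk⟩ := O.Ea_trans H.hfa hz hz1
      exact isConj_iff.2 ⟨k, hk⟩
  refine ⟨⟨fun p hp g => ?_⟩, ?_⟩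
  · by_cases h : p = 1
    · simp [h]
    · exact ((hK _).1 (((hK p).2 ⟨hp, h⟩).trans (isConj_iff.2 ⟨g, rfl⟩))).1
  · have h := CfsgLib.Invol.card_conjugates_mul s
    rw [O.card_cent] at h
    have h7 : Nat.card {y : G // IsConj s y} = 7 := by
      rw [Nat.card_congr (Equiv.subtypeEquivRight hK)]
      have h8 := O.card_Ea
      rw [Nat.card_congr (Equiv.subtypeSubtypeEquivSubtypeInter (fun z => z ∈ Ea s a x) (fun z => z ≠ 1)).symm]
      haveI := Fintype.ofFinite (Ea s a x)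
      rw [Nat.card_eq_fintype_card] at h8 ⊢
      have e : {v : Ea s a x // (v : G) ≠ 1} ≃ {v : Ea s a x // v ≠ 1} :=
        Equiv.subtypeEquivRight fun v => ⟨fun h e => h (by rw [e]; rfl), fun h e => h (Subtype.ext e)⟩
      rw [Fintype.card_congr e, Fintype.card_subtype_compl, Fintype.card_subtype_eq, h8]
    rw [← h, h7]

end CfsgLib.ExtraThirtyTwo.Eight
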