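import Cfsg.Agent.Lib.ExtraThirtyTwo.Eight.Basic
import Cfsg.Agent.Lib.ExtraThirtyTwo.Growth

/-!
# The elementary subgroup of order eight and the elements normalizing it
-/

set_option autoImplicit false

noncomputable section

namespace CfsgLib.ExtraThirtyTwo.Eight

open CfsgLib.MTwelveInvol (mulC onec)

variable {G : Type*} [Group G]

/-- The subgroup generated by `s` and a pair. -/
def Ea (s a x : G) : Subgroup G := Subgroup.closure {s, a, x * a * x⁻¹}

variable [Finite G] {s a b x u : G} (O : Oct s a b x u)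
include O

theorem Oct.mem_Ea {g : G} : g ∈ Ea s a x ↔ g * s = s * g ∧ O.D.code g ∈ EaL := by
  constructor
  · intro h
    let M : Submonoid G :=
      { carrier := {g | g * s = s * g ∧ O.D.code g ∈ EaL}
        one_mem' := ⟨by simp, O.D.code_one ▸ List.mem_cons_self⟩
        mul_mem' := fun {p q} hp hq =>
          ⟨Coded.comm_mul hp.1 hq.1, by rw [O.D.mul _ _ hp.1 hq.1]; exact (EaL_mul _ hp.2 _ hq.2).1⟩ }
    have hsub : ({s, a, x * a * x⁻¹} : Set G) ⊆ M := by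
      rintro y (rfl | rfl | rfl)
      · exact ⟨rfl, by rw [O.code_s]; decide +kernel⟩
      · exact ⟨O.a_s, by rw [O.code_a]; decide +kernel⟩
      · exact ⟨O.a1_s, by rw [O.code_a1]; decide +kernel⟩
    have h' : g ∈ (Subgroup.closure ({s, a, x * a * x⁻¹} : Set G)).toSubmonoid := h
    rw [Subgroup.closure_toSubmonoid_of_finite] at h'
    exact Submonoid.closure_le.2 hsub h'
  · rintro ⟨hg, hc⟩
    obtain ⟨w, hw, e⟩ := EaL_gen _ hc
    obtain ⟨Q, F⟩ := O.frame
    have hlt : ∀ w ∈ [[], [0], [1], [2], [0, 1], [0, 2], [1, 2], [0, 1, 2]], ∀ i ∈ w, i < 3 := by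
      decide
    have hev : ∀ l : List ℕ, (∀ i ∈ l, i < 7) → O.D.code (ev (vals s a b x u) l) = evC gens l := by
      intro l
      induction l with
      | nil => intro _; exact O.D.code_one
      | cons i l ih =>
        intro hl
        rw [ev_cons, O.D.mul _ _ (O.comms i) (F.ev_comm l), ih fun j hj => hl j (List.mem_cons_of_mem _ hj),
          O.code_gen (hl i List.mem_cons_self)]
        rfl
    have hgw : g = ev (vals s a b x u) w := O.D.inj _ _ hg (F.ev_comm w) (by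
      rw [hev w fun i hi => by have := hlt w hw i hi; omega, e])
    rw [hgw]
    refine list_prod_mem fun y hy => ?_
    obtain ⟨i, hi, rfl⟩ := List.mem_map.1 hy
    have := hlt w hw i hi
    refine Subgroup.subset_closure ?_
    interval_cases i <;> simp [vals]

omit [Finite G] in
theorem Oct.gens_mem : s ∈ Ea s a x ∧ a ∈ Ea s a x ∧ x * a * x⁻¹ ∈ Ea s a x :=
  ⟨Subgroup.subset_closure (by simp), Subgroup.subset_closure (by simp),
    Subgroup.subset_closure (by simp)⟩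

theorem Oct.Ea_comm {p q : G} (hp : p ∈ Ea s a x) (hq : q ∈ Ea s a x) : p * q = q * p := by
  rw [O.mem_Ea] at hp hq
  exact (O.D.com_iff hp.1 hq.1).1 (EaL_mul _ hp.2 _ hq.2).2

theorem Oct.Ea_sq {p : G} (hp : p ∈ Ea s a x) : p * p = 1 := by
  rw [O.mem_Ea] at hp
  exact (O.D.sq_one_iff hp.1).1 (EaL_sub _ hp.2).2

theorem Oct.el_Ea {c : ℕ} (hc : c ∈ EaL) : O.D.el c ∈ Ea s a x :=
  O.mem_Ea.2 ⟨O.D.el_comm c, by rw [O.D.code_el (EaL_sub c hc).1]; exact hc⟩

theorem Oct.Ea_conj {k p : G} (hk : k * s = s * k) (hp : p ∈ Ea s a x) :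
    k * p * k⁻¹ ∈ Ea s a x := by
  obtain ⟨hp1, hp2⟩ := O.mem_Ea.1 hp
  obtain ⟨d, hd, e⟩ := EaL_normal _ (O.D.mem k hk) _ hp2
  have : k * p * k⁻¹ = O.D.el d := by
    rw [mul_inv_eq_iff_eq_mul]
    refine O.D.inj _ _ (Coded.comm_mul hk hp1) (Coded.comm_mul (O.D.el_comm d) hk) ?_
    rw [O.D.mul _ _ hk hp1, O.D.mul _ _ (O.D.el_comm d) hk, O.D.code_el (EaL_sub d hd).1, e]
  rw [this]; exact O.el_Ea hd

theorem Oct.Ea_self {k : G} (hk : ∀ p ∈ Ea s a x, k * p = p * k) : k ∈ Ea s a x := by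
  have hks := hk s O.gens_mem.1
  refine O.mem_Ea.2 ⟨hks, EaL_self _ (O.D.mem k hks) fun c hc => ?_⟩
  have h := (O.D.com_iff hks (O.D.el_comm c)).2 (hk _ (O.el_Ea hc))
  rwa [O.D.code_el (EaL_sub c hc).1] at h

theorem Oct.card_Ea : Nat.card (Ea s a x) = 8 := by
  classical
  rw [← EaL_list.2, ← List.toFinset_card_of_nodup EaL_list.1, ← Nat.card_eq_finsetCard]
  refine Nat.card_eq_of_bijective
    (fun g => ⟨O.D.code g.1, List.mem_toFinset.2 (O.mem_Ea.1 g.2).2⟩) ⟨?_, ?_⟩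
  · intro g h e
    exact Subtype.ext (O.D.inj _ _ (O.mem_Ea.1 g.2).1 (O.mem_Ea.1 h.2).1 (congrArg Subtype.val e))
  · rintro ⟨c, hc⟩
    rw [List.mem_toFinset] at hc
    exact ⟨⟨_, O.el_Ea hc⟩, Subtype.ext (O.D.code_el (EaL_sub c hc).1)⟩

omit O in
/-- Conjugation by `k` stabilizes the subgroup. -/
def Norm (s a x k : G) : Prop := ∀ p ∈ Ea s a x, k * p * k⁻¹ ∈ Ea s a x

omit O in
theorem Norm.mul {k l : G} (hk : Norm s a x k) (hl : Norm s a x l) : Norm s a x (k * l) :=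
  fun p hp => by
    rw [show k * l * p * (k * l)⁻¹ = k * (l * p * l⁻¹) * k⁻¹ by group]
    exact hk _ (hl p hp)

omit O in
theorem Norm.inv {k : G} (hk : Norm s a x k) : Norm s a x k⁻¹ := by
  obtain ⟨n, hn⟩ : ∃ n : ℕ, k⁻¹ = k ^ n := ⟨orderOf k - 1, by
    rw [inv_eq_iff_mul_eq_one, ← pow_succ', Nat.sub_add_cancel (orderOf_pos k), pow_orderOf_eq_one]⟩
  rw [hn]
  clear hn
  induction n with
  | zero => intro p hp; simpa using hp
  | succ n ih => rw [pow_succ]; exact ih.mul hk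

theorem Oct.norm_of_comm {k : G} (hk : k * s = s * k) : Norm s a x k := fun _ hp => O.Ea_conj hk hp

theorem Oct.Ea_cases {p : G} (hp : p ∈ Ea s a x) : p = 1 ∨ p = s ∨ O.D.code p ∈ Xa := by
  obtain ⟨h1, h2⟩ := O.mem_Ea.1 hp
  simp only [EaL, List.mem_cons] at h2
  rcases h2 with h | h | h
  · exact Or.inl ((O.D.eq_one_iff h1).1 h)
  · exact Or.inr (Or.inl (O.D.inj _ _ h1 rfl (h.trans O.code_s.symm)))
  · exact Or.inr (Or.inr h)

variable (hfa : IsConj s a)
include hfa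

/-- An element of `C(a)` outside `C(s)` normalizing the subgroup. -/
theorem Oct.exists_move : ∃ n : G, Norm s a x n ∧ n * a = a * n ∧ n * s * n⁻¹ = s * a := by
  classical
  set R : Subgroup G := Subgroup.centralizer ({s} : Set G) ⊓ Subgroup.centralizer ({a} : Set G) with hR
  have hmem : ∀ g : G, g ∈ R ↔ g * s = s * g ∧ g * a = a * g := fun g => by
    rw [hR, Subgroup.mem_inf, Subgroup.mem_centralizer_singleton_iff, Subgroup.mem_centralizer_singleton_iff]
  have hcR : ∀ g : G, g * s = s * g → (g ∈ R ↔ O.D.code g ∈ cent ac) := fun g hg => by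
    rw [hmem, cent, List.mem_filter, beq_iff_eq, ← O.code_a, O.D.com_iff hg O.a_s]
    exact ⟨fun h => ⟨O.D.mem g hg, h.2⟩, fun h => ⟨hg, h.2⟩⟩
  have helR : ∀ c ∈ cent ac, O.D.el c ∈ R := fun c hc => by
    rw [hcR _ (O.D.el_comm c), O.D.code_el (List.mem_filter.1 hc).1]; exact hc
  obtain ⟨n, hnK, hnR, h1, h2⟩ := exists_normalizing (R := R)
    (K := Subgroup.centralizer ({a} : Set G)) inf_le_right (k := 5)
    (by rw [O.card_com O.a_s, O.code_a, cent_length.1]; norm_num)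
    (by rw [CfsgLib.Invol.card_centralizer_of_isConj hfa, O.card_cent]; norm_num)
  have hna : n * a = a * n := Subgroup.mem_centralizer_singleton_iff.1 hnK
  have hns : ¬ n * s = s * n := fun h => hnR ((hmem n).2 ⟨h, hna⟩)
  have hsR : s ∈ R := (hmem s).2 ⟨rfl, O.a_s.symm⟩
  have haR : a ∈ R := (hmem a).2 ⟨O.a_s, rfl⟩
  have hy := (hmem _).1 (h1 s hsR)
  have hna' : n * a * n⁻¹ = a := by rw [hna, mul_inv_cancel_right]
  have hsa : s * a * s = s * (s * a) := Coded.comm_mul (s := s) rfl O.a_s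
  have hns' : n * s * n⁻¹ = s * a := by
    have hc : O.D.code (n * s * n⁻¹) ∈ [onec, sc, ac, mulC sc ac] := by
      refine center_ac _ ((hcR _ hy.1).1 (h1 s hsR)) fun q hq => ?_
      have hz : n⁻¹ * O.D.el q * n * s = s * (n⁻¹ * O.D.el q * n) := ((hmem _).1 (h2 _ (helR q hq))).1
      have h := (O.D.com_iff hy.1 (O.D.el_comm q)).2 (by
        calc n * s * n⁻¹ * O.D.el q = n * (s * (n⁻¹ * O.D.el q * n)) * n⁻¹ := by group
          _ = n * (n⁻¹ * O.D.el q * n * s) * n⁻¹ := by rw [hz]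
          _ = _ := by group)
      rwa [O.D.code_el (List.mem_filter.1 hq).1] at h
    simp only [List.mem_cons, List.not_mem_nil, or_false] at hc
    rcases hc with h | h | h | h
    · exact absurd (conj_eq_one_iff.1 ((O.D.eq_one_iff hy.1).1 h)) O.sne
    · exact absurd (mul_inv_eq_iff_eq_mul.1 (O.D.inj _ _ hy.1 rfl (h.trans O.code_s.symm))) hns
    · have e : n * s * n⁻¹ = n * a * n⁻¹ := by
        rw [hna']; exact O.D.inj _ _ hy.1 O.a_s (h.trans O.code_a.symm)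
      have e' : s = a := mul_left_cancel (mul_right_cancel e)
      exact absurd (O.code_s.symm.trans ((congrArg O.D.code e').trans O.code_a)) (by decide +kernel)
    · exact O.D.inj _ _ hy.1 hsa (h.trans (by rw [O.D.mul _ _ rfl O.a_s, O.code_s, O.code_a]))
  refine ⟨n, fun p hp => ?_, hna, hns'⟩
  obtain ⟨hp1, hp2⟩ := O.mem_Ea.1 hp
  have hsaE : s * a ∈ Ea s a x := mul_mem O.gens_mem.1 O.gens_mem.2.1
  rcases EaL_few _ hp2 with h | h
  · simp only [List.mem_cons, List.not_mem_nil, or_false] at h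
    rcases h with h | h | h | h
    · rw [(O.D.eq_one_iff hp1).1 h]; simp
    · rw [O.D.inj _ _ hp1 rfl (h.trans O.code_s.symm), hns']; exact hsaE
    · rw [O.D.inj _ _ hp1 O.a_s (h.trans O.code_a.symm), hna']; exact O.gens_mem.2.1
    · rw [O.D.inj _ _ hp1 hsa (h.trans (by rw [O.D.mul _ _ rfl O.a_s, O.code_s, O.code_a])),
        show n * (s * a) * n⁻¹ = n * s * n⁻¹ * (n * a * n⁻¹) by group, hns', hna']
      exact mul_mem hsaE O.gens_mem.2.1
  · have hpR : p ∈ R := (hcR p hp1).2 (EaL_in_cent _ hp2)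
    have hq := (hmem _).1 (h1 p hpR)
    refine O.mem_Ea.2 ⟨hq.1, few_EaL _ ((hcR _ hq.1).1 (h1 p hpR))
      ((O.D.sq_one_iff hq.1).2 (by
        rw [show n * p * n⁻¹ * (n * p * n⁻¹) = n * (p * p) * n⁻¹ by group, O.Ea_sq hp]; group)) ?_⟩
    have count : ∀ y : G, y * s = s * y →
        Nat.card {z : G // z ∈ R ∧ z * y = y * z} =
          ((cent ac).filter fun q => mulC q (O.D.code y) == mulC (O.D.code y) q).length := by
      intro y hy
      have hnd : (cent ac).Nodup := L_nodup.filter _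
      rw [← List.toFinset_card_of_nodup (hnd.filter _), ← Nat.card_eq_finsetCard]
      refine Nat.card_eq_of_bijective (fun z => ⟨O.D.code z.1, List.mem_toFinset.2 (List.mem_filter.2
        ⟨(hcR _ ((hmem _).1 z.2.1).1).1 z.2.1, beq_iff_eq.2 ((O.D.com_iff ((hmem _).1 z.2.1).1 hy).2 z.2.2)⟩)⟩)
        ⟨?_, ?_⟩
      · intro g h e
        exact Subtype.ext (O.D.inj _ _ ((hmem _).1 g.2.1).1 ((hmem _).1 h.2.1).1 (congrArg Subtype.val e))
      · rintro ⟨c, hc⟩
        obtain ⟨hc1, hc2⟩ := List.mem_filter.1 (List.mem_toFinset.1 hc)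
        refine ⟨⟨O.D.el c, helR c hc1, ?_⟩, Subtype.ext (O.D.code_el (List.mem_filter.1 hc1).1)⟩
        exact (O.D.com_iff (O.D.el_comm c) hy).1
          (by rw [O.D.code_el (List.mem_filter.1 hc1).1]; exact beq_iff_eq.1 hc2)
    rw [← count _ hq.1, ← h, ← count p hp1]
    refine (Nat.card_congr (Equiv.subtypeEquiv (MulAut.conj n).toEquiv fun z => ?_)).symm
    show z ∈ R ∧ z * p = p * z ↔ n * z * n⁻¹ ∈ R ∧ n * z * n⁻¹ * (n * p * n⁻¹) = n * p * n⁻¹ * (n * z * n⁻¹)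
    refine and_congr ⟨h1 z, fun h => ?_⟩ (Commute.conj_iff n).symm
    have := h2 _ h
    rwa [show n⁻¹ * (n * z * n⁻¹) * n = z by group] at this

/-- Transitivity on the involutions of the subgroup. -/
theorem Oct.Ea_trans {y : G} (hy : y ∈ Ea s a x) (hy1 : y ≠ 1) :
    ∃ k, Norm s a x k ∧ k * s * k⁻¹ = y := by
  obtain ⟨n, hn, -, hns⟩ := O.exists_move hfa
  rcases O.Ea_cases hy with h | h | h
  · exact absurd h hy1
  · exact ⟨1, fun p hp => by simpa using hp, by simp [h]⟩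
  · have hys := (O.mem_Ea.1 hy).1
    obtain ⟨l, hl, hle⟩ := conj_Xa _ h
    have hsa : s * a * s = s * (s * a) := Coded.comm_mul (s := s) rfl O.a_s
    obtain ⟨m, hm, hme⟩ : ∃ m, m * s = s * m ∧ m * (s * a) * m⁻¹ = y := by
      refine O.conj_rep hys hsa ?_
      rw [O.D.mul _ _ rfl O.a_s, O.code_s, O.code_a]
      exact (show ∀ c ∈ Xa, ∃ k ∈ L, mulC k (mulC sc ac) = mulC c k by decide +kernel) _ h
    exact ⟨m * n, (O.norm_of_comm hm).mul hn, by
      rw [show m * n * s * (m * n)⁻¹ = m * (n * s * n⁻¹) * m⁻¹ by group, hns, hme]⟩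

/-- Transitivity on the ordered bases. -/
theorem Oct.Ea_basis {y z w : G} (hy : y ∈ Ea s a x) (hy1 : y ≠ 1) (hz : z ∈ Ea s a x)
    (hz1 : z ≠ 1) (hzy : z ≠ y) (hw : w ∈ Ea s a x) (hw1 : w ≠ 1) (hwy : w ≠ y) (hwz : w ≠ z)
    (hwyz : w ≠ y * z) :
    ∃ k, Norm s a x k ∧ k * s * k⁻¹ = y ∧ k * a * k⁻¹ = z ∧ k * (x * a * x⁻¹) * k⁻¹ = w := by
  obtain ⟨k, hk, hky⟩ := O.Ea_trans hfa hy hy1
  have hz' : k⁻¹ * z * k ∈ Ea s a x := by simpa using hk.inv z hz
  obtain ⟨l, hl, hle⟩ : ∃ l, l * s = s * l ∧ l * a * l⁻¹ = k⁻¹ * z * k := by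
    rcases O.Ea_cases hz' with h | h | h
    · exact absurd (by rw [show z = k * (k⁻¹ * z * k) * k⁻¹ by group, h]; group) hz1
    · exact absurd (by rw [show z = k * (k⁻¹ * z * k) * k⁻¹ by group, h, hky]) hzy
    · exact O.conj_rep (O.mem_Ea.1 hz').1 O.a_s (by rw [O.code_a]; exact conj_Xa _ h)
  set m := k * l with hm
  have hmN : Norm s a x m := hk.mul (O.norm_of_comm hl)
  have hms : m * s * m⁻¹ = y := by
    rw [hm, show k * l * s * (k * l)⁻¹ = k * (l * s * l⁻¹) * k⁻¹ by group, hl, mul_inv_cancel_right, hky]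
  have hma : m * a * m⁻¹ = z := by
    rw [hm, show k * l * a * (k * l)⁻¹ = k * (l * a * l⁻¹) * k⁻¹ by group, hle]; group
  have hw' : m⁻¹ * w * m ∈ Ea s a x := by simpa using hmN.inv w hw
  have back : ∀ p, m⁻¹ * w * m = p → w = m * p * m⁻¹ := fun p e => by rw [← e]; group
  obtain ⟨hw's, hw'c⟩ := O.mem_Ea.1 hw'
  have hnot : O.D.code (m⁻¹ * w * m) ∉ [onec, sc, ac, mulC sc ac] := by
    intro h
    simp only [List.mem_cons, List.not_mem_nil, or_false] at h
    rcases h with h | h | h | h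
    · exact hw1 (by rw [back 1 ((O.D.eq_one_iff hw's).1 h)]; group)
    · exact hwy (by rw [back s (O.D.inj _ _ hw's rfl (h.trans O.code_s.symm)), hms])
    · exact hwz (by rw [back a (O.D.inj _ _ hw's O.a_s (h.trans O.code_a.symm)), hma])
    · refine hwyz ?_
      rw [back (s * a) (O.D.inj _ _ hw's (Coded.comm_mul (s := s) rfl O.a_s)
        (h.trans (by rw [O.D.mul _ _ rfl O.a_s, O.code_s, O.code_a]))), ← hms, ← hma]
      group
  obtain ⟨q, hq, hqe⟩ := move_a1 _ hw'c hnot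
  obtain ⟨hqL, hqa⟩ := List.mem_filter.1 hq
  have hqs := O.D.el_comm q
  have hqa' : O.D.el q * a = a * O.D.el q := (O.D.com_iff hqs O.a_s).1 (by
    rw [O.D.code_el hqL, O.code_a]; exact beq_iff_eq.1 hqa)
  have hqe' : O.D.el q * (x * a * x⁻¹) * (O.D.el q)⁻¹ = m⁻¹ * w * m := by
    rw [mul_inv_eq_iff_eq_mul]
    refine O.D.inj _ _ (Coded.comm_mul hqs O.a1_s) (Coded.comm_mul hw's hqs) ?_
    rw [O.D.mul _ _ hqs O.a1_s, O.D.mul _ _ hw's hqs, O.D.code_el hqL, O.code_a1, hqe]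
  refine ⟨m * O.D.el q, hmN.mul (O.norm_of_comm hqs), ?_, ?_, ?_⟩
  · rw [show m * O.D.el q * s * (m * O.D.el q)⁻¹ = m * (O.D.el q * s * (O.D.el q)⁻¹) * m⁻¹ by group,
      hqs, mul_inv_cancel_right, hms]
  · rw [show m * O.D.el q * a * (m * O.D.el q)⁻¹ = m * (O.D.el q * a * (O.D.el q)⁻¹) * m⁻¹ by group,
      hqa', mul_inv_cancel_right, hma]
  · rw [show m * O.D.el q * (x * a * x⁻¹) * (m * O.D.el q)⁻¹ =
      m * (O.D.el q * (x * a * x⁻¹) * (O.D.el q)⁻¹) * m⁻¹ by group, hqe']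
    group

/-- The pairing of the partners with the involutions outside. -/
theorem Oct.pairing :
    (IsConj b u ∧ IsConj (third s a b) (u * s)) ∨ (IsConj b (u * s) ∧ IsConj (third s a b) u) := by
  obtain ⟨hs', ha', ha1'⟩ := O.gens_mem
  have ne : ∀ {p q : G} {c d : ℕ}, O.D.code p = c → O.D.code q = d → c ≠ d → p ≠ q := fun hp hq hn e =>
    hn (hp.symm.trans ((congrArg O.D.code e).trans hq))
  have hsa : s * a * s = s * (s * a) := Coded.comm_mul (s := s) rfl O.a_s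
  obtain ⟨k, -, hks, hka, hka1⟩ := O.Ea_basis hfa (y := a) (z := s) (w := x * a * x⁻¹) ha'
    (ne O.code_a O.D.code_one (by decide +kernel)) hs' O.sne
    (ne O.code_s O.code_a (by decide +kernel)) ha1'
    (ne O.code_a1 O.D.code_one (by decide +kernel)) (ne O.code_a1 O.code_a (by decide +kernel))
    (ne O.code_a1 O.code_s (by decide +kernel))
    (ne O.code_a1 (show O.D.code (a * s) = mulC ac sc by rw [O.D.mul _ _ O.a_s rfl, O.code_a, O.code_s])
      (by decide +kernel))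
  set t := k * b * k⁻¹ with ht
  have hab : b * a = a * b := by
    refine (O.D.com_iff O.b_s O.a_s).1 ?_
    rw [O.code_b, O.code_a]; decide +kernel
  have ht2 : t * t = 1 := by
    have hb2 : b * b = 1 := (O.D.sq_one_iff O.b_s).1 (by rw [O.code_b]; decide +kernel)
    rw [ht, show k * b * k⁻¹ * (k * b * k⁻¹) = k * (b * b) * k⁻¹ by group, hb2]; group
  have hts : t * s = s * t := by
    rw [ht]; conv_lhs => rw [← hka]
    conv_rhs => rw [← hka]
    exact ((Commute.conj_iff k).2 hab).eq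
  have hta : t * a = a * t := by
    rw [ht]; conv_lhs => rw [← hks]
    conv_rhs => rw [← hks]
    exact ((Commute.conj_iff k).2 O.b_s).eq
  have hta1 : t * (x * a * x⁻¹) * t = a * (x * a * x⁻¹) := by
    have hb : b * (x * a * x⁻¹) * b = s * (x * a * x⁻¹) := by
      refine O.D.inj _ _ (Coded.comm_mul (Coded.comm_mul O.b_s O.a1_s) O.b_s)
        (Coded.comm_mul (s := s) rfl O.a1_s) ?_
      rw [O.D.mul _ _ (Coded.comm_mul O.b_s O.a1_s) O.b_s, O.D.mul _ _ O.b_s O.a1_s,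
        O.D.mul _ _ rfl O.a1_s, O.code_b, O.code_a1, O.code_s]
      decide +kernel
    calc t * (x * a * x⁻¹) * t
        = k * b * k⁻¹ * (k * (x * a * x⁻¹) * k⁻¹) * (k * b * k⁻¹) := by rw [hka1]
      _ = k * (b * (x * a * x⁻¹) * b) * k⁻¹ := by group
      _ = k * s * k⁻¹ * (k * (x * a * x⁻¹) * k⁻¹) := by rw [hb]; group
      _ = _ := by rw [hks, hka1]
  have hc := transvection_check _ (O.D.mem t hts) ((O.D.sq_one_iff hts).2 ht2)
    (by rw [← O.code_a]; exact (O.D.com_iff hts O.a_s).2 hta)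
    (by rw [← O.code_a, ← O.code_a1, ← O.D.mul _ _ hts O.a1_s,
      ← O.D.mul _ _ (Coded.comm_mul hts O.a1_s) hts, hta1, O.D.mul _ _ O.a_s O.a1_s])
  have hct : k * third s a b * k⁻¹ = a * s * t := by
    rw [third, show k * (s * a * b) * k⁻¹ = k * s * k⁻¹ * (k * a * k⁻¹) * (k * b * k⁻¹) by group, hks, hka]
  have hast : a * s * t * s = s * (a * s * t) := Coded.comm_mul (Coded.comm_mul O.a_s rfl) hts
  have hcode : O.D.code (a * s * t) = mulC (mulC ac sc) (O.D.code t) := by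
    rw [O.D.mul _ _ (Coded.comm_mul O.a_s rfl) hts, O.D.mul _ _ O.a_s rfl, O.code_a, O.code_s]
  have hbt : IsConj b t := isConj_iff.2 ⟨k, rfl⟩
  have hct' : IsConj (third s a b) (a * s * t) := isConj_iff.2 ⟨k, hct⟩
  have hus := Coded.comm_mul O.u_s (rfl : s * s = s * s)
  rcases hc with ⟨h1, h2⟩ | ⟨h1, h2⟩
  · obtain ⟨l, -, hl⟩ := O.conj_rep hts O.u_s (O.code_u.symm ▸ conj_T _ h1)
    obtain ⟨m, -, hm⟩ := O.conj_rep hast hus (by rw [O.code_us, hcode]; exact conj_U _ h2)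
    exact Or.inl ⟨hbt.trans (isConj_iff.2 ⟨l, hl⟩).symm, hct'.trans (isConj_iff.2 ⟨m, hm⟩).symm⟩
  · obtain ⟨l, -, hl⟩ := O.conj_rep hts hus (O.code_us.symm ▸ conj_U _ h1)
    obtain ⟨m, -, hm⟩ := O.conj_rep hast O.u_s (by rw [O.code_u, hcode]; exact conj_T _ h2)
    exact Or.inr ⟨hbt.trans (isConj_iff.2 ⟨l, hl⟩).symm, hct'.trans (isConj_iff.2 ⟨m, hm⟩).symm⟩

end CfsgLib.ExtraThirtyTwo.Eight
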