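import Cfsg.Agent.Lib.ExtraThirtyTwo.Eight.Model

/-!
# Facts about the model, checked by computation
-/

set_option autoImplicit false
set_option maxRecDepth 16384
set_option Elab.async false

namespace CfsgLib.ExtraThirtyTwo.Eight

open CfsgLib.MTwelveInvol (mulC onec)

theorem L_nodup : L.Nodup := by decide +kernel
theorem L_length : L.length = 192 := by decide +kernel
theorem eval_rules : ∀ r ∈ allRules false false, evC gens r.1 = evC gens r.2 := by decide +kernel
theorem eval_nodup : (allWords.map (evC gens)).Nodup := by decide +kernel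
theorem eval_sub : ∀ w ∈ allWords, evC gens w ∈ L := by decide +kernel
theorem eval_sup : ∀ c ∈ L, c ∈ allWords.map (evC gens) := by decide +kernel
theorem gens_values : (List.range 7).map (fun i => evC gens [i]) = gens := by decide +kernel
theorem named : evC gens [0, 1, 3] = cc ∧ mulC uc sc ∈ U ∧ uc ∈ T ∧ cc ∈ Xc ∧ ac ∈ Xa ∧ bc ∈ Xb ∧ a1c ∈ Xa ∧ b1c ∈ Xb := by
  decide +kernel

theorem cls_sub : ∀ c ∈ sc :: (Xa ++ Xb ++ Xc ++ T ++ U), c ∈ L ∧ mulC c c = onec ∧ c ≠ onec := by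
  decide +kernel
theorem invol_cls : ∀ c ∈ L, mulC c c = onec → c = onec ∨ c ∈ sc :: (Xa ++ Xb ++ Xc ++ T ++ U) := by
  decide +kernel
theorem conj_Xa : ∀ c ∈ Xa, ∃ k ∈ L, mulC k ac = mulC c k := by decide +kernel
theorem conj_Xb : ∀ c ∈ Xb, ∃ k ∈ L, mulC k bc = mulC c k := by decide +kernel
theorem conj_Xc : ∀ c ∈ Xc, ∃ k ∈ L, mulC k cc = mulC c k := by decide +kernel
theorem conj_T : ∀ c ∈ T, ∃ k ∈ L, mulC k uc = mulC c k := by decide +kernel
theorem conj_U : ∀ c ∈ U, ∃ k ∈ L, mulC k (mulC uc sc) = mulC c k := by decide +kernel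
theorem not_conj : ∀ k ∈ L, mulC k bc ≠ mulC cc k ∧ mulC k cc ≠ mulC bc k := by decide +kernel
theorem sc_central : ∀ c ∈ L, mulC sc c = mulC c sc := by decide +kernel

-- the normal subgroup of order eight
theorem EaL_sub : ∀ c ∈ EaL, c ∈ L ∧ mulC c c = onec := by decide +kernel
theorem EaL_mul : ∀ p ∈ EaL, ∀ q ∈ EaL, mulC p q ∈ EaL ∧ mulC p q = mulC q p := by decide +kernel
theorem EaL_gen : ∀ c ∈ EaL, ∃ w ∈ [[], [0], [1], [2], [0, 1], [0, 2], [1, 2], [0, 1, 2]],
    evC gens w = c := by decide +kernel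
theorem EaL_normal : ∀ k ∈ L, ∀ c ∈ EaL, ∃ d ∈ EaL, mulC k c = mulC d k := by decide +kernel
theorem EaL_self : ∀ c ∈ L, (∀ p ∈ EaL, mulC c p = mulC p c) → c ∈ EaL := by decide +kernel
theorem EaL_list : EaL.Nodup ∧ EaL.length = 8 := by decide +kernel

-- the centralizers of involutions of the normal subgroup of order 32
theorem cent_length : (cent ac).length = 32 ∧ (cent bc).length = 32 ∧ (cent cc).length = 32 ∧
    ∀ c ∈ Xb ++ Xc ++ T ++ U, (cent c).length = 32 ∨ (cent c).length = 16 := by decide +kernel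
theorem center_ac : ∀ c ∈ cent ac, (∀ q ∈ cent ac, mulC c q = mulC q c) →
    c ∈ [onec, sc, ac, mulC sc ac] := by decide +kernel
theorem center_bc : ∀ c ∈ cent bc, (∀ q ∈ cent bc, mulC c q = mulC q c) →
    c ∈ [onec, sc, bc, mulC sc bc] := by decide +kernel
theorem center_cc : ∀ c ∈ cent cc, (∀ q ∈ cent cc, mulC c q = mulC q c) →
    c ∈ [onec, sc, cc, mulC sc cc] := by decide +kernel
theorem center_mem : mulC sc ac ∈ Xa ∧ mulC sc bc ∈ Xb ∧ mulC sc cc ∈ Xc ∧
    sc ∈ cent ac ∧ sc ∈ cent bc ∧ sc ∈ cent cc := by decide +kernel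
theorem EaL_in_cent : ∀ c ∈ EaL, c ∈ cent ac := by decide +kernel
theorem EaL_few : ∀ c ∈ EaL, c ∈ [onec, sc, ac, mulC sc ac] ∨
    ((cent ac).filter fun q => mulC q c == mulC c q).length = 8 := by decide +kernel
theorem few_EaL : ∀ c ∈ cent ac, mulC c c = onec →
    ((cent ac).filter fun q => mulC q c == mulC c q).length = 8 → c ∈ EaL := by decide +kernel
theorem move_a1 : ∀ c ∈ EaL, c ∉ [onec, sc, ac, mulC sc ac] →
    ∃ k ∈ cent ac, mulC k a1c = mulC c k := by decide +kernel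

-- an involution outside acting as a transvection with centre `a`
theorem transvection_check : ∀ c ∈ L, mulC c c = onec → mulC c ac = mulC ac c →
    mulC (mulC c a1c) c = mulC ac a1c →
    (c ∈ T ∧ mulC (mulC ac sc) c ∈ U) ∨ (c ∈ U ∧ mulC (mulC ac sc) c ∈ T) := by decide +kernel

-- products inside the normal subgroup of order 32
theorem prod_bc : ∀ c ∈ Xa, mulC c bc = mulC bc c → mulC c bc ∈ Xc := by decide +kernel
theorem prod_cc : ∀ c ∈ Xa, mulC c cc = mulC cc c → mulC c cc ∈ Xb := by decide +kernel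

-- the elementary subgroup of order 16
theorem E16_spec : E16.length = 16 ∧ E16.Nodup ∧
    ∀ p ∈ E16, mulC p p = onec ∧ ∀ q ∈ E16, mulC p q = mulC q p := by decide +kernel
theorem E16_self : ∀ c ∈ L, (∀ p ∈ E16, mulC c p = mulC p c) → c ∈ E16 := by decide +kernel
theorem E16_conj : ∀ w ∈ T ++ U, ∃ k ∈ L, ∀ c ∈ cent w, ∃ d ∈ E16, mulC k d = mulC c k := by
  decide +kernel
theorem no_E16_inside : ∀ c ∈ Xa ++ Xb ++ Xc,
    ((sc :: (Xa ++ Xb ++ Xc)).filter fun q => mulC q c == mulC c q).length < 15 := by decide +kernel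

/-- The normalizer of `E16` in the model. -/
def NE : List ℕ := L.filter fun k => E16.all fun c => (E16.filter fun d => mulC k c == mulC d k) != []

theorem NE_length : NE.length = 64 := by decide +kernel
theorem NE_fix : ∀ c ∈ E16, (∀ k ∈ NE, mulC k c = mulC c k) → c = onec ∨ c = sc := by decide +kernel
theorem NE_sq : ∀ k ∈ NE, mulC k k ∈ E16 := by decide +kernel
theorem NE_fix_four : ∀ k ∈ NE, k ∈ E16 ∨ (E16.filter fun c => mulC k c == mulC c k).length = 4 := by
  decide +kernel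

-- points and planes
theorem EbL_sub : ∀ c ∈ EbL, c ∈ L := by decide +kernel
theorem K8_sub : ∀ c ∈ K8, c ∈ L ∧ c ∈ sc :: (Xa ++ Xb ++ Xc ++ T ++ U) ∧ c ∉ Xc ∧ c ∉ U := by
  decide +kernel
theorem Ea_com_b : ∀ c ∈ EaL, mulC c bc = mulC bc c → c ∈ [onec, sc, ac, mulC sc ac] := by
  decide +kernel
theorem Ea_Eb : ∀ c ∈ EaL, c ∈ EbL → c = onec ∨ c = sc := by decide +kernel

/-- The conditions on the elements at a partner of the normal subgroup `EbL`. -/
def atPt (z c : ℕ) : Bool :=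
  c == z || (K8.contains c && !EbL.contains c && mulC c z == mulC z c && K8.contains (mulC c z))

/-- The same for `EaL`. -/
def atPl (y c : ℕ) : Bool :=
  c == y || (K8.contains c && !EaL.contains c && mulC c y == mulC y c && K8.contains (mulC c y))

theorem flag_exists : ∀ y ∈ Xa, ∀ z ∈ Xb, mulC y z = mulC z y →
    ∃ c ∈ K8, atPt z c = true ∧ atPl y c = true := by decide +kernel
theorem flag_none : ∀ y ∈ Xa, ∀ z ∈ Xb, ∀ c ∈ K8,
    atPt z c = true → atPl y c = true → mulC y z = mulC z y := by decide +kernel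
theorem flag_comm : ∀ y ∈ Xa, ∀ z ∈ Xb, mulC y z ≠ mulC z y →
    mulC (mulC y z) (mulC y z) = sc := by decide +kernel
theorem cent_four : ∀ z ∈ EbL, 4 ≤ (EaL.filter fun y => mulC y z == mulC z y).length := by
  decide +kernel
theorem Ea_com_bb : ∀ c ∈ EaL, mulC c bc = mulC bc c → mulC c b1c = mulC b1c c →
    c = onec ∨ c = sc := by decide +kernel
theorem pt_pair : ∀ z ∈ Xb, ∀ c, c ∈ K8 → c ∉ EbL → mulC c z = mulC z c → mulC c z ∈ K8 →
    ∀ d ∈ K8, d ∉ EbL → mulC d z = mulC z d → mulC d z ∈ K8 → d = c ∨ d = mulC c z := by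
  decide +kernel

end CfsgLib.ExtraThirtyTwo.Eight
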