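import Cfsg.Agent.Lib.ExtraThirtyTwo.Eight.Ea

/-!
# Two pairs fused: points, planes and their incidence
-/

set_option autoImplicit false

noncomputable section

namespace CfsgLib.ExtraThirtyTwo.Eight

open CfsgLib.MTwelveInvol (mulC onec)

variable {G : Type*} [Group G] [Finite G] {s a b x u : G}

/-- Two pairs, not the third, are fused to `s`. -/
structure Two (O : Oct s a b x u) : Prop where
  hfa : IsConj s a
  hfb : IsConj s b
  hfc : ¬ IsConj s (third s a b)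
  hu : IsConj b u
  hus : IsConj (third s a b) (u * s)

variable {O : Oct s a b x u} (H : Two O)
include H

theorem Two.symm : Two O.symm := by
  have e : third s b a = third s a b := by
    have hab : b * a = a * b := (O.D.com_iff O.b_s O.a_s).1 (by rw [O.code_b, O.code_a]; decide +kernel)
    rw [third, third, mul_assoc, hab, ← mul_assoc]
  exact ⟨H.hfb, H.hfa, by rw [e]; exact H.hfc, H.hfa.symm.trans (H.hfb.trans H.hu), by rw [e]; exact H.hus⟩

omit H in
theorem Oct.mem_Eb (O : Oct s a b x u) {g : G} :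
    g ∈ Ea s b x ↔ g * s = s * g ∧ O.D.code g ∈ EbL := by
  classical
  have fwd : ∀ g ∈ Ea s b x, g * s = s * g ∧ O.D.code g ∈ EbL := by
    intro g h
    let M : Submonoid G :=
      { carrier := {g | g * s = s * g ∧ O.D.code g ∈ EbL}
        one_mem' := ⟨by simp, O.D.code_one ▸ List.mem_cons_self⟩
        mul_mem' := fun {p q} hp hq =>
          ⟨Coded.comm_mul hp.1 hq.1, by
            rw [O.D.mul _ _ hp.1 hq.1]
            exact (show ∀ p ∈ EbL, ∀ q ∈ EbL, mulC p q ∈ EbL by decide +kernel) _ hp.2 _ hq.2⟩ }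
    have hsub : ({s, b, x * b * x⁻¹} : Set G) ⊆ M := by
      rintro y (rfl | rfl | rfl)
      · exact ⟨rfl, by rw [O.code_s]; decide +kernel⟩
      · exact ⟨O.b_s, by rw [O.code_b]; decide +kernel⟩
      · exact ⟨O.b1_s, by rw [O.code_b1]; decide +kernel⟩
    have h' : g ∈ (Subgroup.closure ({s, b, x * b * x⁻¹} : Set G)).toSubmonoid := h
    rw [Subgroup.closure_toSubmonoid_of_finite] at h'
    exact Submonoid.closure_le.2 hsub h'
  refine ⟨fwd g, fun ⟨hg, hc⟩ => ?_⟩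
  let f : Ea s b x → {c // c ∈ EbL.toFinset} := fun p => ⟨O.D.code p.1, List.mem_toFinset.2 (fwd p p.2).2⟩
  have hf : Function.Bijective f := (Nat.bijective_iff_injective_and_card f).2
    ⟨fun p q e => Subtype.ext (O.D.inj _ _ (fwd p p.2).1 (fwd q q.2).1 (congrArg Subtype.val e)), by
      rw [O.symm.card_Ea, Nat.card_eq_finsetCard]
      decide +kernel⟩
  obtain ⟨p, hp⟩ := hf.2 ⟨O.D.code g, List.mem_toFinset.2 hc⟩
  rw [← O.D.inj _ _ (fwd p p.2).1 hg (congrArg Subtype.val hp)]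
  exact p.2

omit [Finite G] H in
/-- A conjugator from `s`. -/
def pk (s y : G) : G :=
  open Classical in if h : IsConj s y then Classical.choose (isConj_iff.1 h) else 1

omit [Finite G] H in
theorem pk_spec {s y : G} (h : IsConj s y) : pk s y * s * (pk s y)⁻¹ = y := by
  rw [pk, dif_pos h]
  exact Classical.choose_spec (isConj_iff.1 h)

omit [Finite G] H in
/-- The point at `y`; with the other pair, the plane at `y`. -/
def pt (s a x y : G) : Subgroup G := (Ea s a x).map (MulAut.conj (pk s y)).toMonoidHom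

omit [Finite G] H in
theorem mem_map_conj {E : Subgroup G} {k g : G} :
    g ∈ E.map (MulAut.conj k).toMonoidHom ↔ k⁻¹ * g * k ∈ E := by
  constructor
  · rintro ⟨p, hp, rfl⟩
    show k⁻¹ * (k * p * k⁻¹) * k ∈ E
    rwa [show k⁻¹ * (k * p * k⁻¹) * k = p by group]
  · exact fun h => ⟨_, h, show k * (k⁻¹ * g * k) * k⁻¹ = g by group⟩

omit H in
theorem Oct.pt_eq (O : Oct s a b x u) {k y : G} (hk : k * s * k⁻¹ = y) :
    pt s a x y = (Ea s a x).map (MulAut.conj k).toMonoidHom := by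
  have hy : IsConj s y := isConj_iff.2 ⟨k, hk⟩
  set l := pk s y with hl
  have hls := pk_spec hy
  rw [← hl] at hls
  have hc : k⁻¹ * l * s = s * (k⁻¹ * l) := by
    rw [← mul_inv_eq_iff_eq_mul]
    calc k⁻¹ * l * s * (k⁻¹ * l)⁻¹ = k⁻¹ * (l * s * l⁻¹) * k := by group
      _ = s := by rw [hls, ← hk]; group
  ext g
  rw [pt, ← hl, mem_map_conj, mem_map_conj]
  constructor <;> intro h
  · have := O.Ea_conj hc h
    rwa [show k⁻¹ * l * (l⁻¹ * g * l) * (k⁻¹ * l)⁻¹ = k⁻¹ * g * k by group] at this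
  · have := O.Ea_conj (Coded.comm_inv hc) h
    rwa [show (k⁻¹ * l)⁻¹ * (k⁻¹ * g * k) * (k⁻¹ * l)⁻¹⁻¹ = l⁻¹ * g * l by group] at this

omit H in
theorem Oct.mem_pt (O : Oct s a b x u) {k y g : G} (hk : k * s * k⁻¹ = y) :
    g ∈ pt s a x y ↔ k⁻¹ * g * k ∈ Ea s a x := by
  rw [O.pt_eq hk, mem_map_conj]

omit H in
theorem Oct.pt_s (O : Oct s a b x u) : pt s a x s = Ea s a x := by
  ext g; rw [O.mem_pt (k := 1) (by simp)]; simp

omit H in
theorem Oct.pt_self (O : Oct s a b x u) {y : G} (hy : IsConj s y) : y ∈ pt s a x y := by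
  obtain ⟨k, rfl⟩ := isConj_iff.1 hy
  rw [O.mem_pt rfl, show k⁻¹ * (k * s * k⁻¹) * k = s by group]
  exact O.gens_mem.1

omit H in
theorem Oct.pt_comm (O : Oct s a b x u) {y g h : G} (hy : IsConj s y) (hg : g ∈ pt s a x y)
    (hh : h ∈ pt s a x y) : g * h = h * g := by
  obtain ⟨k, rfl⟩ := isConj_iff.1 hy
  rw [O.mem_pt rfl] at hg hh
  have e := O.Ea_comm hg hh
  calc g * h = k * (k⁻¹ * g * k * (k⁻¹ * h * k)) * k⁻¹ := by group
    _ = k * (k⁻¹ * h * k * (k⁻¹ * g * k)) * k⁻¹ := by rw [e]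
    _ = _ := by group

omit H in
theorem Oct.pt_conj (O : Oct s a b x u) {y z g : G} (hy : IsConj s y) (hz : IsConj s z)
    (e : pt s a x y = pt s a x z) : pt s a x (g * y * g⁻¹) = pt s a x (g * z * g⁻¹) := by
  obtain ⟨k, rfl⟩ := isConj_iff.1 hy
  obtain ⟨l, rfl⟩ := isConj_iff.1 hz
  ext p
  rw [O.mem_pt (k := g * k) (by group), O.mem_pt (k := g * l) (by group)]
  have h := SetLike.ext_iff.1 e (g⁻¹ * p * g)
  rw [O.mem_pt rfl, O.mem_pt rfl] at h
  simpa [mul_assoc] using h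

theorem Two.pt_of_mem {y g : G} (hy : IsConj s y) (hg : g ∈ pt s a x y) (h1 : g ≠ 1) :
    IsConj s g ∧ pt s a x g = pt s a x y := by
  obtain ⟨k, rfl⟩ := isConj_iff.1 hy
  have hg' := (O.mem_pt rfl).1 hg
  obtain ⟨n, hn, hns⟩ := O.Ea_trans H.hfa hg' (fun e => h1 (by
    rw [show g = k * (k⁻¹ * g * k) * k⁻¹ by group, e]; group))
  have e : k * n * s * (k * n)⁻¹ = g := by
    rw [show k * n * s * (k * n)⁻¹ = k * (n * s * n⁻¹) * k⁻¹ by group, hns]; group
  refine ⟨isConj_iff.2 ⟨_, e⟩, ?_⟩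
  ext p
  rw [O.mem_pt e, O.mem_pt rfl]
  constructor <;> intro h
  · have := hn _ h
    rwa [show n * ((k * n)⁻¹ * p * (k * n)) * n⁻¹ = k⁻¹ * p * k by group] at this
  · have := hn.inv _ h
    rwa [show n⁻¹ * (k⁻¹ * p * k) * n⁻¹⁻¹ = (k * n)⁻¹ * p * (k * n) by group] at this

/-- The classes fused to `s` in its centralizer are those of the codes in `K8`. -/
theorem Two.code_K {v : G} (hv : v * s = s * v) (h2 : v * v = 1) (h1 : v ≠ 1) :
    IsConj s v ↔ O.D.code v ∈ K8 := by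
  have conj : ∀ {r : G} {rc : ℕ}, r * s = s * r → O.D.code r = rc →
      (∃ k ∈ L, mulC k rc = mulC (O.D.code v) k) → IsConj r v := fun hr hrc h => by
    obtain ⟨k, -, hk⟩ := O.conj_rep hv hr (hrc.symm ▸ h)
    exact isConj_iff.2 ⟨k, hk⟩
  have h := O.cls hv h2 h1
  simp only [List.mem_cons, List.mem_append] at h
  simp only [K8, List.mem_cons, List.mem_append]
  rcases h with h | (((h | h) | h) | h) | h
  · exact iff_of_true ((O.D.inj _ _ hv rfl (h.trans O.code_s.symm)) ▸ IsConj.refl s) (Or.inl h)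
  · exact iff_of_true (H.hfa.trans (conj O.a_s O.code_a (conj_Xa _ h))) (Or.inr (Or.inl (Or.inl h)))
  · exact iff_of_true (H.hfb.trans (conj O.b_s O.code_b (conj_Xb _ h))) (Or.inr (Or.inl (Or.inr h)))
  · refine iff_of_false (fun e => H.hfc (e.trans (conj O.c_s O.code_c (conj_Xc _ h)).symm)) ?_
    exact (show ∀ c ∈ Xc, ¬ (c = sc ∨ (c ∈ Xa ∨ c ∈ Xb) ∨ c ∈ T) by decide +kernel) _ h
  · exact iff_of_true ((H.hfb.trans H.hu).trans (conj O.u_s O.code_u (conj_T _ h))) (Or.inr (Or.inr h))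
  · refine iff_of_false (fun e => H.hfc
      ((e.trans (conj (Coded.comm_mul O.u_s rfl) O.code_us (conj_U _ h)).symm).trans H.hus.symm)) ?_
    exact (show ∀ c ∈ U, ¬ (c = sc ∨ (c ∈ Xa ∨ c ∈ Xb) ∨ c ∈ T) by decide +kernel) _ h

/-- Two prescribed images. -/
theorem Two.pair_move {y z : G} (hy : y ∈ Ea s a x) (hy1 : y ≠ 1) (hz : z ∈ Ea s a x) (hz1 : z ≠ 1)
    (hzy : z ≠ y) : ∃ k, Norm s a x k ∧ k * s * k⁻¹ = y ∧ k * a * k⁻¹ = z := by
  obtain ⟨k, hk, hky⟩ := O.Ea_trans H.hfa hy hy1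
  have hz' : k⁻¹ * z * k ∈ Ea s a x := by simpa using hk.inv z hz
  obtain ⟨l, hl, hle⟩ : ∃ l, l * s = s * l ∧ l * a * l⁻¹ = k⁻¹ * z * k := by
    rcases O.Ea_cases hz' with h | h | h
    · exact absurd (by rw [show z = k * (k⁻¹ * z * k) * k⁻¹ by group, h]; group) hz1
    · exact absurd (by rw [show z = k * (k⁻¹ * z * k) * k⁻¹ by group, h, hky]) hzy
    · exact O.conj_rep (O.mem_Ea.1 hz').1 O.a_s (by rw [O.code_a]; exact conj_Xa _ h)
  refine ⟨k * l, hk.mul (O.norm_of_comm hl), ?_, ?_⟩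
  · rw [show k * l * s * (k * l)⁻¹ = k * (l * s * l⁻¹) * k⁻¹ by group, hl, mul_inv_cancel_right, hky]
  · rw [show k * l * a * (k * l)⁻¹ = k * (l * a * l⁻¹) * k⁻¹ by group, hle]; group

omit H in
/-- The conditions on an element at the point of a partner. -/
def Near (s b x v w : G) : Prop :=
  v = w ∨ (IsConj s v ∧ v ∉ Ea s b x ∧ v * w = w * v ∧ IsConj s (v * w))

/-- The elements commuting with `s` at the point of a partner. -/
theorem Two.pt_local {w v : G} (hw : w ∈ Ea s b x) (hw1 : w ≠ 1) (hws : w ≠ s) (hv : v * s = s * v) :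
    v ∈ pt s a x w ∧ v ≠ 1 ↔ Near s b x v w := by
  obtain ⟨g, hg, hgs, hgb⟩ := H.symm.pair_move hw hw1 O.symm.gens_mem.1 O.sne (Ne.symm hws)
  have hwk : IsConj s w := isConj_iff.2 ⟨g, hgs⟩
  have hEb := O.symm.Ea_sq hw
  have hws' : w * s = s * w := (O.mem_Eb.1 hw).1
  have a2 : a * a = 1 := O.Ea_sq O.gens_mem.2.1
  have hsa : s * a * s = s * (s * a) := Coded.comm_mul (s := s) rfl O.a_s
  have hneE : ∀ p, O.D.code p ∈ [ac, mulC sc ac] → p * s = s * p → p ∉ Ea s b x := fun p hp hps h =>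
    (show ∀ c ∈ [ac, mulC sc ac], c ∉ EbL by decide +kernel) _ hp (O.mem_Eb.1 h).2
  -- the images of `a` and `sa`
  have img : ∀ p, p ∈ Ea s a x → O.D.code p ∈ [ac, mulC sc ac] →
      g * p * g⁻¹ * s = s * (g * p * g⁻¹) ∧ IsConj s (g * p * g⁻¹) ∧ g * p * g⁻¹ ∉ Ea s b x ∧
      g * p * g⁻¹ * w = w * (g * p * g⁻¹) ∧ IsConj s (g * p * g⁻¹ * w) := by
    intro p hp hpc
    obtain ⟨hps, hpE⟩ := O.mem_Ea.1 hp
    have hpb : p * b = b * p := (O.D.com_iff hps O.b_s).1 (by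
      rw [O.code_b]
      exact (show ∀ c ∈ [ac, mulC sc ac], mulC c bc = mulC bc c by decide +kernel) _ hpc)
    have hpX : ∀ c ∈ [ac, mulC sc ac], c ∈ Xa ∧ mulC c sc ∈ Xa := by decide +kernel
    refine ⟨?_, ?_, fun h => hneE p hpc hps ?_, ?_, ?_⟩
    · conv_lhs => rw [← hgb]
      conv_rhs => rw [← hgb]
      exact ((Commute.conj_iff g).2 hpb).eq
    · obtain ⟨l, -, hl⟩ := O.conj_rep hps O.a_s (by rw [O.code_a]; exact conj_Xa _ (hpX _ hpc).1)
      exact H.hfa.trans ((isConj_iff.2 ⟨l, hl⟩).trans (isConj_iff.2 ⟨g, rfl⟩))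
    · have h' := hg.inv _ h
      rwa [show g⁻¹ * (g * p * g⁻¹) * g⁻¹⁻¹ = p by group] at h'
    · rw [← hgs]; exact ((Commute.conj_iff g).2 hps).eq
    · rw [← hgs, show g * p * g⁻¹ * (g * s * g⁻¹) = g * (p * s) * g⁻¹ by group]
      obtain ⟨l, -, hl⟩ := O.conj_rep (Coded.comm_mul hps rfl) O.a_s (by
        rw [O.D.mul _ _ hps rfl, O.code_a, O.code_s]; exact conj_Xa _ (hpX _ hpc).2)
      exact H.hfa.trans ((isConj_iff.2 ⟨l, hl⟩).trans (isConj_iff.2 ⟨g, rfl⟩))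
  constructor
  · rintro ⟨hvp, hv1⟩
    have hp := (O.mem_pt hgs).1 hvp
    set p := g⁻¹ * v * g with hpd
    have hvp' : v = g * p * g⁻¹ := by rw [hpd]; group
    obtain ⟨hps, hpE⟩ := O.mem_Ea.1 hp
    have hpb : p * b = b * p := (Commute.conj_iff g).1 (by
      show g * p * g⁻¹ * (g * b * g⁻¹) = g * b * g⁻¹ * (g * p * g⁻¹)
      rw [hgb, ← hvp']; exact hv)
    have hc := Ea_com_b _ hpE (by rw [← O.code_b]; exact (O.D.com_iff hps O.b_s).2 hpb)
    simp only [List.mem_cons, List.not_mem_nil, or_false] at hc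
    rcases hc with h | h | h
    · exact absurd (by rw [hvp', (O.D.eq_one_iff hps).1 h]; group) hv1
    · exact Or.inl (by rw [hvp', O.D.inj _ _ hps rfl (h.trans O.code_s.symm), hgs])
    · obtain ⟨-, h2, h3, h4, h5⟩ := img p hp (by simpa using h)
      rw [← hvp'] at h2 h3 h4 h5
      exact Or.inr ⟨h2, h3, h4, h5⟩
  · rintro (rfl | ⟨h2, h3, h4, h5⟩)
    · exact ⟨O.pt_self hwk, hw1⟩
    have hv1 : v ≠ 1 := fun e => h3 (e ▸ one_mem _)
    refine ⟨?_, hv1⟩
    obtain ⟨t1, t2, t3, t4, t5⟩ := img a O.gens_mem.2.1 (by rw [O.code_a]; decide +kernel)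
    have sqK : ∀ q : G, IsConj s q → q * q = 1 ∧ q ≠ 1 := fun q hq => by
      obtain ⟨l, rfl⟩ := isConj_iff.1 hq
      exact ⟨by rw [show l * s * l⁻¹ * (l * s * l⁻¹) = l * (s * s) * l⁻¹ by group, O.ss]; group,
        fun e => O.sne (conj_eq_one_iff.1 e)⟩
    have conds : ∀ q : G, q * s = s * q → IsConj s q → q ∉ Ea s b x → q * w = w * q → IsConj s (q * w) →
        O.D.code q ∈ K8 ∧ O.D.code q ∉ EbL ∧ mulC (O.D.code q) (O.D.code w) = mulC (O.D.code w) (O.D.code q) ∧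
        mulC (O.D.code q) (O.D.code w) ∈ K8 := fun q q1 q2 q3 q4 q5 => by
      refine ⟨(H.code_K q1 (sqK q q2).1 (sqK q q2).2).1 q2, fun h => q3 (O.mem_Eb.2 ⟨q1, h⟩),
        (O.D.com_iff q1 hws').2 q4, ?_⟩
      rw [← O.D.mul _ _ q1 hws']
      exact (H.code_K (Coded.comm_mul q1 hws') (sqK _ q5).1 (sqK _ q5).2).1 q5
    obtain ⟨c1, c2, c3, c4⟩ := conds _ t1 t2 t3 t4 t5
    obtain ⟨d1, d2, d3, d4⟩ := conds v hv h2 h3 h4 h5
    have hwX : O.D.code w ∈ Xb := by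
      have h := (O.mem_Eb.1 hw).2
      simp only [EbL, List.mem_cons] at h
      rcases h with h | h | h
      · exact absurd ((O.D.eq_one_iff hws').1 h) hw1
      · exact absurd (O.D.inj _ _ hws' rfl (h.trans O.code_s.symm)) hws
      · exact h
    rw [O.mem_pt hgs]
    rcases pt_pair _ hwX _ c1 c2 c3 c4 _ d1 d2 d3 d4 with h | h
    · rw [O.D.inj _ _ hv t1 h, show g⁻¹ * (g * a * g⁻¹) * g = a by group]
      exact O.gens_mem.2.1
    · rw [O.D.inj _ _ hv (Coded.comm_mul t1 hws') (h.trans (O.D.mul _ _ t1 hws').symm), ← hgs,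
        show g⁻¹ * (g * a * g⁻¹ * (g * s * g⁻¹)) * g = a * s by group]
      exact mul_mem O.gens_mem.2.1 O.gens_mem.1

omit H in
/-- The point at `y` lies on the plane at `z`. -/
def Inc (s a b x y z : G) : Prop :=
  ∃ v, IsConj s v ∧ pt s a x v = pt s a x y ∧ pt s b x v = pt s b x z

omit H in
theorem Inc.conj (O : Oct s a b x u) {y z : G} (hy : IsConj s y) (hz : IsConj s z)
    (h : Inc s a b x y z) (g : G) : Inc s a b x (g * y * g⁻¹) (g * z * g⁻¹) := by
  obtain ⟨v, hv, h1, h2⟩ := h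
  exact ⟨g * v * g⁻¹, hv.trans (isConj_iff.2 ⟨g, rfl⟩), O.pt_conj hv hy h1, O.symm.pt_conj hv hz h2⟩

theorem Two.K_Ea {y : G} (hy : y ∈ Ea s a x) (h1 : y ≠ 1) : IsConj s y :=
  (H.pt_of_mem (IsConj.refl s) (by rw [O.pt_s]; exact hy) h1).1

theorem Two.pt_Ea {y : G} (hy : y ∈ Ea s a x) (h1 : y ≠ 1) : pt s a x y = Ea s a x := by
  rw [(H.pt_of_mem (IsConj.refl s) (by rw [O.pt_s]; exact hy) h1).2, O.pt_s]

/-- A partner's point lies on a plane through the point at `s` iff they commute. -/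
theorem Two.flag_local {y w : G} (hy : y ∈ Ea s a x) (hy1 : y ≠ 1) (hw : w ∈ Ea s b x) (hw1 : w ≠ 1) :
    Inc s a b x w y ↔ y * w = w * y := by
  obtain ⟨hys, hyc⟩ := O.mem_Ea.1 hy
  obtain ⟨hws, hwc⟩ := O.mem_Eb.1 hw
  rcases O.Ea_cases hy with h | h | hyX
  · exact absurd h hy1
  · rw [h]
    exact iff_of_true ⟨w, H.symm.K_Ea hw hw1, rfl, by rw [H.symm.pt_Ea hw hw1, O.symm.pt_s]⟩ hws.symm
  by_cases hwss : w = s
  · rw [hwss]
    exact iff_of_true ⟨y, H.K_Ea hy hy1, by rw [H.pt_Ea hy hy1, O.pt_s], rfl⟩ hys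
  have hwX : O.D.code w ∈ Xb := by
    have h := hwc
    simp only [EbL, List.mem_cons] at h
    rcases h with h | h | h
    · exact absurd ((O.D.eq_one_iff hws).1 h) hw1
    · exact absurd (O.D.inj _ _ hws rfl (h.trans O.code_s.symm)) hwss
    · exact h
  have hyne : y ≠ s := fun e => by
    rw [e, O.code_s] at hyX
    exact absurd hyX (by decide +kernel)
  have sqK : ∀ q : G, IsConj s q → q * q = 1 ∧ q ≠ 1 := fun q hq => by
    obtain ⟨l, rfl⟩ := isConj_iff.1 hq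
    exact ⟨by rw [show l * s * l⁻¹ * (l * s * l⁻¹) = l * (s * s) * l⁻¹ by group, O.ss]; group,
      fun e => O.sne (conj_eq_one_iff.1 e)⟩
  have ofCode : ∀ {q : G}, q * s = s * q → O.D.code q ∈ K8 → IsConj s q := fun {q} hq hc =>
    (H.code_K hq ((O.D.sq_one_iff hq).1 (cls_sub _ (K8_sub _ hc).2.1).2.1)
      fun e => (cls_sub _ (K8_sub _ hc).2.1).2.2 ((O.D.eq_one_iff hq).2 e)).2 hc
  have near_pt : ∀ {v : G}, v * s = s * v → IsConj s v →
      (Near s b x v w ↔ atPt (O.D.code w) (O.D.code v) = true) := by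
    intro v hv hvK
    have hvc := (H.code_K hv (sqK v hvK).1 (sqK v hvK).2).1 hvK
    simp only [Near, atPt, Bool.or_eq_true, Bool.and_eq_true, beq_iff_eq, List.contains_iff_mem,
      Bool.not_eq_true', ← Bool.not_eq_true]
    rw [O.D.code_eq_iff hv hws, O.D.com_iff hv hws, ← O.D.mul _ _ hv hws]
    refine or_congr Iff.rfl ⟨fun ⟨_, h2, h3, h4⟩ => ⟨⟨⟨hvc, fun h => h2 (O.mem_Eb.2 ⟨hv, h⟩)⟩, h3⟩,
      (H.code_K (Coded.comm_mul hv hws) (sqK _ h4).1 (sqK _ h4).2).1 h4⟩,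
      fun ⟨⟨⟨_, h2⟩, h3⟩, h4⟩ => ⟨hvK, fun h => h2 (O.mem_Eb.1 h).2, h3, ofCode (Coded.comm_mul hv hws) h4⟩⟩
  have near_pl : ∀ {v : G}, v * s = s * v → IsConj s v →
      (Near s a x v y ↔ atPl (O.D.code y) (O.D.code v) = true) := by
    intro v hv hvK
    have hvc := (H.code_K hv (sqK v hvK).1 (sqK v hvK).2).1 hvK
    simp only [Near, atPl, Bool.or_eq_true, Bool.and_eq_true, beq_iff_eq, List.contains_iff_mem,
      Bool.not_eq_true', ← Bool.not_eq_true]
    rw [O.D.code_eq_iff hv hys, O.D.com_iff hv hys, ← O.D.mul _ _ hv hys]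
    refine or_congr Iff.rfl ⟨fun ⟨_, h2, h3, h4⟩ => ⟨⟨⟨hvc, fun h => h2 (O.mem_Ea.2 ⟨hv, h⟩)⟩, h3⟩,
      (H.code_K (Coded.comm_mul hv hys) (sqK _ h4).1 (sqK _ h4).2).1 h4⟩,
      fun ⟨⟨⟨_, h2⟩, h3⟩, h4⟩ => ⟨hvK, fun h => h2 (O.mem_Ea.1 h).2, h3, ofCode (Coded.comm_mul hv hys) h4⟩⟩
  have hwK := H.symm.K_Ea hw hw1
  have hyK := H.K_Ea hy hy1
  constructor
  · rintro ⟨v, hv, h1, h2⟩
    by_contra hne
    have hvw : v * w = w * v := O.pt_comm hwK (h1 ▸ O.pt_self hv) (O.pt_self hwK)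
    have hvy : v * y = y * v := O.symm.pt_comm hyK (h2 ▸ O.symm.pt_self hv) (O.symm.pt_self hyK)
    have hyw : y * w * (y * w) = s := by
      have h := flag_comm _ hyX _ hwX fun h => hne ((O.D.com_iff hys hws).1 h)
      rw [← O.D.mul _ _ hys hws, ← O.D.mul _ _ (Coded.comm_mul hys hws) (Coded.comm_mul hys hws),
        ← O.code_s] at h
      exact O.D.inj _ _ (Coded.comm_mul (Coded.comm_mul hys hws) (Coded.comm_mul hys hws)) rfl h
    have hvs : v * s = s * v := by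
      rw [← hyw]
      exact (((show Commute v y from hvy).mul_right hvw).mul_right
        ((show Commute v y from hvy).mul_right hvw)).eq
    have hv1 := (sqK v hv).2
    have n1 := (H.pt_local hw hw1 hwss hvs).1 ⟨h1 ▸ O.pt_self hv, hv1⟩
    have n2 := (H.symm.pt_local hy hy1 hyne hvs).1 ⟨h2 ▸ O.symm.pt_self hv, hv1⟩
    exact hne ((O.D.com_iff hys hws).1 (flag_none _ hyX _ hwX _ ((H.code_K hvs (sqK v hv).1 hv1).1 hv)
      ((near_pt hvs hv).1 n1) ((near_pl hvs hv).1 n2)))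
  · intro hc
    obtain ⟨c, hc8, hc1, hc2⟩ := flag_exists _ hyX _ hwX ((O.D.com_iff hys hws).2 hc)
    have hcL := (K8_sub c hc8).1
    have hvs := O.D.el_comm c
    have hvK := ofCode hvs (by rw [O.D.code_el hcL]; exact hc8)
    rw [← O.D.code_el hcL] at hc1 hc2
    obtain ⟨m1, -⟩ := (H.pt_local hw hw1 hwss hvs).2 ((near_pt hvs hvK).2 hc1)
    obtain ⟨m2, -⟩ := (H.symm.pt_local hy hy1 hyne hvs).2 ((near_pl hvs hvK).2 hc2)
    exact ⟨_, hvK, (H.pt_of_mem hwK m1 (sqK _ hvK).2).2, (H.symm.pt_of_mem hyK m2 (sqK _ hvK).2).2⟩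

/-- A flag is determined by its point and its plane. -/
theorem Two.flag_inj {v w : G} (hv : IsConj s v) (hw : IsConj s w)
    (h1 : pt s a x v = pt s a x w) (h2 : pt s b x v = pt s b x w) : v = w := by
  obtain ⟨k, rfl⟩ := isConj_iff.1 hv
  have e1 : k⁻¹ * w * k ∈ Ea s a x := (O.mem_pt rfl).1 (h1 ▸ O.pt_self hw)
  have e2 : k⁻¹ * w * k ∈ Ea s b x := (O.symm.mem_pt rfl).1 (h2 ▸ O.symm.pt_self hw)
  obtain ⟨hs', hc⟩ := O.mem_Ea.1 e1
  have hback : w = k * (k⁻¹ * w * k) * k⁻¹ := by group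
  rcases Ea_Eb _ hc (O.mem_Eb.1 e2).2 with h | h
  · obtain ⟨l, hl⟩ := isConj_iff.1 hw
    rw [(O.D.eq_one_iff hs').1 h] at hback
    exact absurd (conj_eq_one_iff.1 (hl.trans (hback.trans (by group)))) O.sne
  · rw [hback, O.D.inj _ _ hs' rfl (h.trans O.code_s.symm)]

omit H in
theorem Oct.pull (O : Oct s a b x u) {k y : G} (hk : IsConj s (k * s * k⁻¹)) (hy : IsConj s y)
    (h : pt s a x (k * s * k⁻¹) = pt s a x y) : k⁻¹ * y * k ∈ Ea s a x ∧ k⁻¹ * y * k ≠ 1 := by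
  refine ⟨(O.mem_pt rfl).1 (h ▸ O.pt_self hy), fun e => ?_⟩
  obtain ⟨l, hl⟩ := isConj_iff.1 hy
  exact O.sne (conj_eq_one_iff.1 (hl.trans (show y = 1 by
    rw [show y = k * (k⁻¹ * y * k) * k⁻¹ by group, e]; group)))

/-- Flags on each other's planes commute; otherwise their product squared is the connecting flag. -/
theorem Two.relation {y z v : G} (hy : IsConj s y) (hz : IsConj s z) (hv : IsConj s v)
    (h1 : pt s a x v = pt s a x y) (h2 : pt s b x v = pt s b x z) :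
    (Inc s a b x z y → y * z = z * y) ∧ (¬ Inc s a b x z y → y * z * (y * z) = v) := by
  obtain ⟨k, rfl⟩ := isConj_iff.1 hv
  obtain ⟨hY, hY1⟩ := O.pull hv hy h1
  obtain ⟨hZ, hZ1⟩ := O.symm.pull hv hz h2
  set Y := k⁻¹ * y * k with hYd
  set Z := k⁻¹ * z * k with hZd
  have hy' : y = k * Y * k⁻¹ := by rw [hYd]; group
  have hz' : z = k * Z * k⁻¹ := by rw [hZd]; group
  have hloc := H.flag_local hY hY1 hZ hZ1
  have hYK := H.K_Ea hY hY1
  have hZK := H.symm.K_Ea hZ hZ1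
  constructor
  · intro hi
    have h := hloc.1 (by
      have := Inc.conj O hz hy hi k⁻¹
      simpa [hYd, hZd] using this)
    rw [hy', hz']
    exact ((Commute.conj_iff k).2 h).eq
  · intro hni
    have hne : ¬ Y * Z = Z * Y := fun e => hni (by
      rw [hy', hz']
      exact Inc.conj O hZK hYK (hloc.2 e) k)
    obtain ⟨hYs, hYc⟩ := O.mem_Ea.1 hY
    obtain ⟨hZs, hZc⟩ := O.mem_Eb.1 hZ
    have hYX : O.D.code Y ∈ Xa := by
      rcases O.Ea_cases hY with h | h | h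
      · exact absurd h hY1
      · exact absurd (by rw [h]; exact hZs.symm) hne
      · exact h
    have hZX : O.D.code Z ∈ Xb := by
      simp only [EbL, List.mem_cons] at hZc
      rcases hZc with h | h | h
      · exact absurd ((O.D.eq_one_iff hZs).1 h) hZ1
      · exact absurd (by rw [O.D.inj _ _ hZs rfl (h.trans O.code_s.symm)]; exact hYs) hne
      · exact h
    have h := flag_comm _ hYX _ hZX fun h => hne ((O.D.com_iff hYs hZs).1 h)
    rw [← O.D.mul _ _ hYs hZs, ← O.D.mul _ _ (Coded.comm_mul hYs hZs) (Coded.comm_mul hYs hZs),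
      ← O.code_s] at h
    have e := O.D.inj _ _ (Coded.comm_mul (Coded.comm_mul hYs hZs) (Coded.comm_mul hYs hZs)) rfl h
    calc y * z * (y * z) = k * (Y * Z * (Y * Z)) * k⁻¹ := by rw [hy', hz']; group
      _ = _ := by rw [e]

/-- The planes through two collinear points. -/
theorem Two.four {v w : G} (hv : IsConj s v) (hw : IsConj s w) (h : pt s b x v = pt s b x w) :
    ∃ W : Subgroup G, W ≤ pt s a x v ∧ 4 ≤ Nat.card W ∧ ∀ z ∈ W, z ≠ 1 → Inc s a b x w z := by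
  classical
  obtain ⟨k, rfl⟩ := isConj_iff.1 hv
  obtain ⟨hZ, hZ1⟩ := O.symm.pull hv hw h
  set Z := k⁻¹ * w * k with hZd
  obtain ⟨hZs, hZc⟩ := O.mem_Eb.1 hZ
  set W0 : Subgroup G := Ea s a x ⊓ Subgroup.centralizer ({Z} : Set G) with hW0
  refine ⟨W0.map (MulAut.conj k).toMonoidHom, ?_, ?_, ?_⟩
  · rw [O.pt_eq rfl]; exact Subgroup.map_mono inf_le_left
  · rw [Subgroup.card_map_of_injective (MulAut.conj k).injective]
    refine (cent_four _ hZc).trans ?_
    have hnd : (EaL.filter fun c => mulC c (O.D.code Z) == mulC (O.D.code Z) c).Nodup := EaL_list.1.filter _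
    rw [← List.toFinset_card_of_nodup hnd, ← Nat.card_eq_finsetCard]
    refine Nat.card_le_card_of_injective (fun c => ⟨O.D.el c.1, ?_⟩) ?_
    · obtain ⟨hc, hcz⟩ := List.mem_filter.1 (List.mem_toFinset.1 c.2)
      refine Subgroup.mem_inf.2 ⟨O.el_Ea hc, Subgroup.mem_centralizer_singleton_iff.2 ?_⟩
      exact (O.D.com_iff (O.D.el_comm _) hZs).1 (by
        rw [O.D.code_el (EaL_sub _ hc).1]; exact beq_iff_eq.1 hcz)
    · rintro ⟨c, hc⟩ ⟨d, hd⟩ e
      have h := congrArg (fun g : W0 => O.D.code (g : G)) e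
      simp only [O.D.code_el (EaL_sub _ (List.mem_filter.1 (List.mem_toFinset.1 hc)).1).1,
        O.D.code_el (EaL_sub _ (List.mem_filter.1 (List.mem_toFinset.1 hd)).1).1] at h
      exact Subtype.ext h
  · intro z hz hz1
    obtain ⟨h1, h2⟩ := Subgroup.mem_inf.1 (mem_map_conj.1 hz)
    set y := k⁻¹ * z * k with hyd
    have hy1 : y ≠ 1 := fun e => hz1 (by rw [show z = k * y * k⁻¹ by rw [hyd]; group, e]; group)
    have h := (H.flag_local h1 hy1 hZ hZ1).2 (Subgroup.mem_centralizer_singleton_iff.1 h2)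
    have h' := Inc.conj O (H.symm.K_Ea hZ hZ1) (H.K_Ea h1 hy1) h k
    rwa [show k * Z * k⁻¹ = w by rw [hZd]; group, show k * y * k⁻¹ = z by rw [hyd]; group] at h'

end CfsgLib.ExtraThirtyTwo.Eight
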