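import Cfsg.Agent.Lib.ExtraThirtyTwo.Coded

/-!
# The model: the centralizer of an involution without fixed points in the alternating group of degree eight

Permutations of eight points are written as numbers in base eight.
-/

set_option autoImplicit false
set_option maxRecDepth 16384
set_option Elab.async false

namespace CfsgLib.ExtraThirtyTwo.Eight

open CfsgLib.MTwelveInvol (mulC onec)

/-- The central involution. -/
def sc : ℕ := 11788826

/-- The first generator. -/
def ac : ℕ := 14570689

/-- Its conjugate. -/
def a1c : ℕ := 342391

/-- The partner of the first generator. -/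
def bc : ℕ := 9925825

/-- Its conjugate. -/
def b1c : ℕ := 4471285

/-- The element of order three. -/
def xc : ℕ := 14854385

/-- The involution outside the normal subgroup of order 32. -/
def uc : ℕ := 11788371

/-- The third of the pair. -/
def cc : ℕ := 16433690

/-- The elements. -/
def L : List ℕ := [
    342391, 342846, 343525, 343980, 858613, 859068, 859495, 859950,
    1139551, 1140685, 1141371, 1142505, 1405726, 1406860, 1407091, 1408225,
    1655773, 1656655, 1657593, 1658475, 1921948, 1922830, 1923313, 1924195,
    2206071, 2206526, 2207205, 2207660, 2722293, 2722748, 2723175, 2723630,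
    3268951, 3270085, 3271226, 3272360, 3535126, 3536260, 3536946, 3538080,
    3785173, 3786055, 3787448, 3788330, 4051348, 4052230, 4053168, 4054050,
    4471285, 4471740, 4472167, 4472622, 4987255, 4987710, 4988389, 4988844,
    5268445, 5269327, 5270265, 5271147, 5534620, 5535502, 5535985, 5536867,
    5784415, 5785549, 5786235, 5787369, 6050590, 6051724, 6051955, 6053089,
    6334965, 6335420, 6335847, 6336302, 6850935, 6851390, 6852069, 6852524,
    7397845, 7398727, 7400120, 7401002, 7664020, 7664902, 7665840, 7666722,
    7913815, 7914949, 7916090, 7917224, 8179990, 8181124, 8181810, 8182944,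
    8594271, 8595405, 8596091, 8597225, 8859991, 8861125, 8862266, 8863400,
    9110493, 9111375, 9112313, 9113195, 9376213, 9377095, 9378488, 9379370,
    9924691, 9925146, 9925825, 9926280, 10440913, 10441368, 10441795, 10442250,
    10724126, 10725260, 10725491, 10726625, 10989846, 10990980, 10991666, 10992800,
    11240348, 11241230, 11241713, 11242595, 11506068, 11506950, 11507888, 11508770,
    11788371, 11788826, 11789505, 11789960, 12304593, 12305048, 12305475, 12305930,
    12723165, 12724047, 12724985, 12725867, 12988885, 12989767, 12991160, 12992042,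
    13239135, 13240269, 13240955, 13242089, 13504855, 13505989, 13507130, 13508264,
    14053585, 14054040, 14054467, 14054922, 14569555, 14570010, 14570689, 14571144,
    14853020, 14853902, 14854385, 14855267, 15118740, 15119622, 15120560, 15121442,
    15368990, 15370124, 15370355, 15371489, 15634710, 15635844, 15636530, 15637664,
    15917265, 15917720, 15918147, 15918602, 16433235, 16433690, 16434369, 16434824]

/-- One of the classes of involutions. -/
def Xa : List ℕ := [
    342391, 2206526, 4988389, 6852524, 9924691, 14570689]

/-- One of the classes of involutions. -/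
def Xb : List ℕ := [
    859495, 2722748, 4471285, 6336302, 9925825, 14569555]

/-- One of the classes of involutions. -/
def Xc : List ℕ := [
    11789960, 12305048, 12305930, 15917720, 15918602, 16433690]

/-- One of the classes of involutions. -/
def T : List ℕ := [
    1139551, 3271226, 5268445, 7401002, 9925146, 10724126, 10991666, 11240348,
    11508770, 11788371, 11789505, 14570010]

/-- One of the classes of involutions. -/
def U : List ℕ := [
    1656655, 3787448, 5785549, 7917224, 9926280, 14571144, 14853902, 15120560,
    15370124, 15637664, 16433235, 16434369]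

/-- The codes of the generators. -/
def gens : List ℕ := [sc, ac, a1c, bc, b1c, xc, uc]

/-- The permutations behind the generators. -/
def perm : ℕ → Equiv.Perm (Fin 8)
  | 0 => Equiv.swap 0 2 * Equiv.swap 1 3 * Equiv.swap 4 6 * Equiv.swap 5 7
  | 1 => Equiv.swap 0 1 * Equiv.swap 2 3 * Equiv.swap 4 5 * Equiv.swap 6 7
  | 2 => Equiv.swap 0 7 * Equiv.swap 1 6 * Equiv.swap 2 5 * Equiv.swap 3 4
  | 3 => Equiv.swap 0 1 * Equiv.swap 2 3 * Equiv.swap 4 7 * Equiv.swap 5 6
  | 4 => Equiv.swap 0 5 * Equiv.swap 1 6 * Equiv.swap 2 7 * Equiv.swap 3 4
  | 5 => Equiv.swap 0 1 * Equiv.swap 1 6 * Equiv.swap 2 3 * Equiv.swap 3 4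
  | 6 => Equiv.swap 0 3 * Equiv.swap 1 2 * Equiv.swap 4 6 * Equiv.swap 5 7
  | _ => 1

theorem perm_code : ∀ i, pcode (perm i) = gens.getD i onec := fun i => by
  match i with
  | 0 => decide +kernel
  | 1 => decide +kernel
  | 2 => decide +kernel
  | 3 => decide +kernel
  | 4 => decide +kernel
  | 5 => decide +kernel
  | 6 => decide +kernel
  | n + 7 => exact (pcode_one).trans (by simp [gens])

theorem perm_even : ∀ i < 7, Equiv.Perm.sign (perm i) = 1 ∧ perm i * perm 0 = perm 0 * perm i := by decide +kernel

/-- The identity, the centre and the class `Xa`. -/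
def EaL : List ℕ := onec :: sc :: Xa

/-- The identity, the centre and the class `Xb`. -/
def EbL : List ℕ := onec :: sc :: Xb

/-- The involutions without fixed points. -/
def K8 : List ℕ := sc :: (Xa ++ Xb ++ T)

/-- The centralizer of a code. -/
def cent (c : ℕ) : List ℕ := L.filter fun g => mulC g c == mulC c g

/-- The elementary subgroup of order 16. -/
def E16 : List ℕ := cent uc

end CfsgLib.ExtraThirtyTwo.Eight
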