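import Cfsg.Agent.Lib.ExtraThirtyTwo.Eight.Ea

/-!
# The three pairs are not all fused to the central involution
-/

set_option autoImplicit false

noncomputable section

namespace CfsgLib.ExtraThirtyTwo.Eight

open CfsgLib.MTwelveInvol (mulC onec)

variable {G : Type*} [Group G] [Finite G] {s a b x u : G}

omit [Finite G] in
theorem no_order_five {M : Type*} [Group M] [Finite M] (hM : Nat.card M = 60) (V : Subgroup M)
    (hV : Nat.card V = 4) (hcomm : ∀ p ∈ V, ∀ q ∈ V, p * q = q * p) (hsq : ∀ p ∈ V, p * p = 1)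
    (hN : ∀ m : M, (∀ p ∈ V, m * p * m⁻¹ ∈ V) → m ∈ V) :
    ∃ f : M, orderOf f = 5 ∧ ∃ v ∈ V, v ≠ 1 ∧ v * f = f * v := by
  classical
  haveI : Fact (Nat.Prime 2) := ⟨Nat.prime_two⟩
  haveI : Fact (Nat.Prime 5) := ⟨by norm_num⟩
  have hfac : Nat.card V = 2 ^ (Nat.card M).factorization 2 := by
    rw [hV, hM, show (60 : ℕ) = 2 ^ 2 * 15 by norm_num, Nat.factorization_mul (by norm_num) (by norm_num),
      Finsupp.add_apply, Nat.Prime.factorization_pow Nat.prime_two, Finsupp.single_eq_same,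
      Nat.factorization_eq_zero_of_not_dvd (by norm_num : ¬ 2 ∣ 15)]
    norm_num
  let P : Sylow 2 M := Sylow.ofCard V hfac
  have hPV : (P : Subgroup M) = V := rfl
  have hP : Subgroup.normalizer ((P : Subgroup M) : Set M) ≤ Subgroup.centralizer ((P : Subgroup M) : Set M) := by
    intro m hm
    rw [hPV] at hm ⊢
    have hmV := hN m fun p hp => (Subgroup.mem_normalizer_iff.1 hm p).1 hp
    rw [Subgroup.mem_centralizer_iff]
    intro p hp
    exact hcomm p hp m hmV
  have hC := MonoidHom.ker_transferSylow_isComplement' P hP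
  set C := (MonoidHom.transferSylow P hP).ker
  haveI : C.Normal := MonoidHom.normal_ker _
  have hC15 : Nat.card C = 15 := by
    have h := hC.card_mul
    rw [hPV, hV, hM] at h
    omega
  obtain ⟨f, hf⟩ := exists_prime_orderOf_dvd_card' (G := M) 5 (by rw [hM]; norm_num)
  have inC : ∀ g : M, orderOf g = 5 → g ∈ C := fun g hg => by
    have hidx : C.index = 4 := by
      have h := C.card_mul_index
      rw [hC15, hM] at h
      omega
    rw [← QuotientGroup.eq_one_iff g]
    refine orderOf_eq_one_iff.1 (Nat.eq_one_of_dvd_coprimes (show Nat.Coprime 5 4 by norm_num) ?_ ?_)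
    · exact hg ▸ orderOf_map_dvd (QuotientGroup.mk' C) g
    · rw [← hidx, Subgroup.index_eq_card]
      exact orderOf_dvd_natCard _
  have five : ∀ g : M, orderOf g = 5 → g ∈ Subgroup.zpowers f := by
    intro g hg
    let Pf : Subgroup C := Subgroup.zpowers ⟨f, inC f hf⟩
    have hfac5 : (Nat.card C).factorization 5 = 1 := by
      rw [hC15, show (15 : ℕ) = 5 * 3 by norm_num, Nat.factorization_mul (by norm_num) (by norm_num),
        Finsupp.add_apply, Nat.Prime.factorization_self (by norm_num),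
        Nat.factorization_eq_zero_of_not_dvd (by norm_num : ¬ 5 ∣ 3)]
    let S : Sylow 5 C := Sylow.ofCard Pf (by rw [hfac5, Nat.card_zpowers, Subgroup.orderOf_mk, hf, pow_one])
    have huniq : Subsingleton (Sylow 5 C) := by
      refine (Nat.card_eq_one_iff_unique.1 ?_).1
      have h1 := card_sylow_modEq_one 5 C
      have h2 := Sylow.card_dvd_index S
      have h3 : (S : Subgroup C).index = 3 := by
        have h := Pf.card_mul_index
        rw [Nat.card_zpowers, Subgroup.orderOf_mk, hf, hC15] at h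
        show Pf.index = 3
        omega
      rw [h3, Nat.dvd_prime Nat.prime_three] at h2
      rcases h2 with h2 | h2
      · exact h2
      · rw [h2] at h1; exact absurd h1 (by decide)
    obtain ⟨T, hT⟩ := (IsPGroup.of_card (p := 5) (n := 1) (G := Subgroup.zpowers (⟨g, inC g hg⟩ : C))
      (by rw [Nat.card_zpowers, Subgroup.orderOf_mk, hg, pow_one])).exists_le_sylow
    rw [Subsingleton.elim T S] at hT
    obtain ⟨i, hi⟩ := (hT (Subgroup.mem_zpowers _) : (⟨g, inC g hg⟩ : C) ∈ Pf)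
    exact ⟨i, congrArg Subtype.val hi⟩
  have hf5 : f ^ 5 = 1 := hf ▸ pow_orderOf_eq_one f
  have act : ∀ v ∈ V, v * f * v⁻¹ = f ∨ v * f * v⁻¹ = f⁻¹ := by
    intro v hv
    obtain ⟨i, hi⟩ := five (v * f * v⁻¹) (by rw [CfsgLib.Invol.orderOf_conj_eq, hf])
    have hi' : v * f * v⁻¹ = f ^ i := hi.symm
    have h2 : f ^ (i * i) = f := by
      rw [zpow_mul, ← hi', conj_zpow, ← hi']
      rw [show v * (v * f * v⁻¹) * v⁻¹ = v * v * f * (v * v)⁻¹ by group, hsq v hv]; group
    have h3 : (5 : ℤ) ∣ i * i - 1 := by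
      have h4 : f ^ (i * i - 1) = 1 := by rw [zpow_sub, zpow_one, h2, mul_inv_cancel]
      have := orderOf_dvd_iff_zpow_eq_one.2 h4
      rwa [hf] at this
    have h5 : ∀ r : ℤ, (5 : ℤ) ∣ i - r → f ^ i = f ^ r := fun r ⟨k, hk⟩ => by
      rw [show i = 5 * k + r by linarith, zpow_add, zpow_mul, show (5 : ℤ) = ((5 : ℕ) : ℤ) from rfl,
        zpow_natCast, hf5, one_zpow, one_mul]
    have h6 : (5 : ℤ) ∣ (i - 1) * (i - (-1)) := by rwa [show (i - 1) * (i - (-1)) = i * i - 1 by ring]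
    rcases (Int.Prime.dvd_mul' (p := 5) (by norm_num) h6) with h | h
    · exact Or.inl (by rw [hi', h5 1 h, zpow_one])
    · exact Or.inr (by rw [hi', h5 (-1) h, zpow_neg, zpow_one])
  obtain ⟨p, hp, hp1⟩ : ∃ p ∈ V, p ≠ 1 := by
    by_contra h
    push Not at h
    rw [(Subgroup.eq_bot_iff_forall _).2 h, Subgroup.card_bot] at hV
    omega
  obtain ⟨q, hq, hq1, hqp⟩ : ∃ q ∈ V, q ≠ 1 ∧ q ≠ p := by
    by_contra h
    push Not at h
    have hsub : (V : Set M) ⊆ ({1, p} : Finset M) := fun r hr => by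
      by_cases e : r = 1
      · simp [e]
      · simp [h r hr e]
    have hle := Set.ncard_le_ncard hsub (Finset.finite_toSet _)
    rw [Set.ncard_coe_finset, ← Nat.card_coe_set_eq] at hle
    have := Finset.card_le_two (a := (1 : M)) (b := p)
    have hV' : Nat.card (V : Set M) = 4 := hV
    omega
  refine ⟨f, hf, ?_⟩
  rcases act p hp with h | h
  · exact ⟨p, hp, hp1, mul_inv_eq_iff_eq_mul.1 h⟩
  rcases act q hq with h' | h'
  · exact ⟨q, hq, hq1, mul_inv_eq_iff_eq_mul.1 h'⟩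
  refine ⟨p * q, mul_mem hp hq, fun e => hqp ?_, mul_inv_eq_iff_eq_mul.1 ?_⟩
  · rw [mul_eq_one_iff_inv_eq] at e
    rw [← e, inv_eq_of_mul_eq_one_right (hsq p hp)]
  · rw [show p * q * f * (p * q)⁻¹ = p * (q * f * q⁻¹) * p⁻¹ by group, h',
      show p * f⁻¹ * p⁻¹ = (p * f * p⁻¹)⁻¹ by group, h, inv_inv]

variable (O : Oct s a b x u)
include O

/-- The three pairs cannot all be fused to `s`. -/
theorem Oct.not_all (hfa : IsConj s a) (hfb : IsConj s b) (hfc : IsConj s (third s a b)) : False := by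
  classical
  have all : ∀ g : G, g * s = s * g → g * g = 1 → g ≠ 1 → IsConj s g := by
    obtain ⟨hu, hus⟩ : IsConj s u ∧ IsConj s (u * s) := by
      rcases O.pairing hfa with ⟨h1, h2⟩ | ⟨h1, h2⟩
      · exact ⟨hfb.trans h1, hfc.trans h2⟩
      · exact ⟨hfc.trans h2, hfb.trans h1⟩
    intro g hg h2 h1
    rcases O.six hg h2 h1 with h | h | h | h | h | h
    · exact h ▸ IsConj.refl g
    · exact hfa.trans h
    · exact hfb.trans h
    · exact hfc.trans h
    · exact hu.trans h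
    · exact hus.trans h
  -- the subgroup of order 16
  set E : Subgroup G := Subgroup.centralizer ({s} : Set G) ⊓ Subgroup.centralizer ({u} : Set G) with hE
  have hme : ∀ g : G, g ∈ E ↔ g * s = s * g ∧ g * u = u * g := fun g => by
    rw [hE, Subgroup.mem_inf, Subgroup.mem_centralizer_singleton_iff, Subgroup.mem_centralizer_singleton_iff]
  have hcE : ∀ g : G, g * s = s * g → (g ∈ E ↔ O.D.code g ∈ E16) := fun g hg => by
    rw [hme, E16, cent, List.mem_filter, beq_iff_eq, ← O.code_u, O.D.com_iff hg O.u_s]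
    exact ⟨fun h => ⟨O.D.mem g hg, h.2⟩, fun h => ⟨hg, h.2⟩⟩
  have helE : ∀ c ∈ E16, O.D.el c ∈ E := fun c hc => by
    rw [hcE _ (O.D.el_comm c), O.D.code_el (List.mem_filter.1 hc).1]; exact hc
  have hcard : Nat.card E = 16 := by rw [O.card_com O.u_s, O.code_u]; exact E16_spec.1
  have hEcode : ∀ g ∈ E, g * s = s * g ∧ O.D.code g ∈ E16 := fun g hg =>
    ⟨((hme g).1 hg).1, (hcE g ((hme g).1 hg).1).1 hg⟩
  have hEsq : ∀ g ∈ E, g * g = 1 := fun g hg =>
    (O.D.sq_one_iff (hEcode g hg).1).1 (E16_spec.2.2 _ (hEcode g hg).2).1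
  have hEcomm : ∀ g ∈ E, ∀ h ∈ E, g * h = h * g := fun g hg h hh =>
    (O.D.com_iff (hEcode g hg).1 (hEcode h hh).1).1 ((E16_spec.2.2 _ (hEcode g hg).2).2 _ (hEcode h hh).2)
  have hsE : s ∈ E := (hme s).2 ⟨rfl, O.u_s.symm⟩
  have hEs : ∀ g ∈ E, g ≠ 1 → IsConj s g := fun g hg h => all g (hEcode g hg).1 (hEsq g hg) h
  -- the normalizer moves `s` to every involution
  have trans : ∀ e ∈ E, e ≠ 1 → ∃ n, (∀ p ∈ E, n * p * n⁻¹ ∈ E) ∧ n * s * n⁻¹ = e := by
    intro e he he1
    obtain ⟨h, hh⟩ := isConj_iff.1 (hEs e he he1)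
    set F : Subgroup G := E.map (MulAut.conj h⁻¹).toMonoidHom with hF
    have hFs : ∀ f ∈ F, f * s = s * f := by
      rintro _ ⟨p, hp, rfl⟩
      show h⁻¹ * p * h⁻¹⁻¹ * s = s * (h⁻¹ * p * h⁻¹⁻¹)
      have hpe := hEcomm p hp e he
      rw [← hh] at hpe
      calc h⁻¹ * p * h⁻¹⁻¹ * s = h⁻¹ * (p * (h * s * h⁻¹)) * h := by group
        _ = h⁻¹ * (h * s * h⁻¹ * p) * h := by rw [hpe]
        _ = _ := by group
    have hFc : Nat.card F = 16 := by rw [hF, Subgroup.card_map_of_injective (MulAut.conj h⁻¹).injective, hcard]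
    have hFsq : ∀ f ∈ F, f * f = 1 := by
      rintro _ ⟨p, hp, rfl⟩
      show (MulAut.conj h⁻¹) p * (MulAut.conj h⁻¹) p = 1
      rw [← map_mul, hEsq p hp, map_one]
    have hFcomm : ∀ f ∈ F, ∀ g ∈ F, f * g = g * f := by
      rintro _ ⟨p, hp, rfl⟩ _ ⟨q, hq, rfl⟩
      show (MulAut.conj h⁻¹) p * (MulAut.conj h⁻¹) q = (MulAut.conj h⁻¹) q * (MulAut.conj h⁻¹) p
      rw [← map_mul, hEcomm p hp q hq, map_mul]
    obtain ⟨w, hw, hwc⟩ : ∃ w ∈ F, O.D.code w ∈ T ++ U := by
      by_contra hno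
      push Not at hno
      have hins : ∀ f ∈ F, f ≠ 1 → O.D.code f ∈ sc :: (Xa ++ Xb ++ Xc) := by
        intro f hf hf1
        have h := O.cls (hFs f hf) (hFsq f hf) hf1
        have h' := hno f hf
        simp only [List.mem_cons, List.mem_append] at h h' ⊢
        tauto
      obtain ⟨f, hf, hf1, hfs⟩ : ∃ f ∈ F, f ≠ 1 ∧ f ≠ s := by
        by_contra hno'
        push Not at hno'
        have hsub : (F : Set G) ⊆ ({1, s} : Finset G) := fun r hr => by
          by_cases e : r = 1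
          · simp [e]
          · simp [hno' r hr e]
        have hle := Set.ncard_le_ncard hsub (Finset.finite_toSet _)
        rw [Set.ncard_coe_finset, ← Nat.card_coe_set_eq] at hle
        have := Finset.card_le_two (a := (1 : G)) (b := s)
        have h16 : Nat.card (F : Set G) = 16 := hFc
        omega
      have hfX : O.D.code f ∈ Xa ++ Xb ++ Xc := by
        rcases List.mem_cons.1 (hins f hf hf1) with h | h
        · exact absurd (O.D.inj _ _ (hFs f hf) rfl (h.trans O.code_s.symm)) hfs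
        · exact h
      set K := (sc :: (Xa ++ Xb ++ Xc)).filter fun q => mulC q (O.D.code f) == mulC (O.D.code f) q
      have hlt : K.length < 15 := no_E16_inside _ hfX
      let φ : {g : F // g ≠ 1} → {c // c ∈ K.toFinset} := fun g => ⟨O.D.code (g.1 : G),
        List.mem_toFinset.2 (List.mem_filter.2 ⟨hins _ g.1.2 fun e => g.2 (Subtype.ext e),
          beq_iff_eq.2 ((O.D.com_iff (hFs _ g.1.2) (hFs f hf)).2 (hFcomm _ g.1.2 f hf))⟩)⟩
      have hle := Nat.card_le_card_of_injective φ fun g g' e =>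
        Subtype.ext (Subtype.ext (O.D.inj _ _ (hFs _ g.1.2) (hFs _ g'.1.2) (congrArg Subtype.val e)))
      have h15 : Nat.card {g : F // g ≠ 1} = 15 := by
        haveI := Fintype.ofFinite F
        rw [Nat.card_eq_fintype_card] at hFc ⊢
        rw [Fintype.card_subtype_compl, Fintype.card_subtype_eq, hFc]
      rw [h15, Nat.card_eq_finsetCard] at hle
      have := List.toFinset_card_le K
      omega
    obtain ⟨k, hk, hke⟩ := E16_conj _ hwc
    have hws := hFs w hw
    have hFle : F ≤ Subgroup.centralizer ({s} : Set G) ⊓ Subgroup.centralizer ({w} : Set G) := fun f hf =>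
      Subgroup.mem_inf.2 ⟨Subgroup.mem_centralizer_singleton_iff.2 (hFs f hf),
        Subgroup.mem_centralizer_singleton_iff.2 (hFcomm f hf w hw)⟩
    have hw16 : (cent (O.D.code w)).length = 16 :=
      (show ∀ c ∈ T ++ U, (cent c).length = 16 by decide +kernel) _ hwc
    have hFeq := Subgroup.eq_of_le_of_card_ge hFle (by rw [O.card_com hws, hw16, hFc])
    have hks := O.D.el_comm k
    have back : ∀ f ∈ F, ∃ q ∈ E, O.D.el k * q * (O.D.el k)⁻¹ = f := by
      intro f hf
      have hfs' := hFs f hf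
      obtain ⟨d, hd, hde⟩ := hke (O.D.code f) (List.mem_filter.2 ⟨O.D.mem f hfs',
        beq_iff_eq.2 ((O.D.com_iff hfs' hws).2 (hFcomm f hf w hw))⟩)
      refine ⟨O.D.el d, helE d hd, mul_inv_eq_iff_eq_mul.2 ?_⟩
      refine O.D.inj _ _ (Coded.comm_mul hks (O.D.el_comm d)) (Coded.comm_mul hfs' hks) ?_
      rw [O.D.mul _ _ hks (O.D.el_comm d), O.D.mul _ _ hfs' hks, O.D.code_el hk,
        O.D.code_el (List.mem_filter.1 hd).1, hde]
    set m := h * O.D.el k with hm
    have hback : ∀ p ∈ E, m⁻¹ * p * m ∈ E := fun p hp => by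
      obtain ⟨q, hq, hqe⟩ := back _ (show h⁻¹ * p * h⁻¹⁻¹ ∈ F from ⟨p, hp, rfl⟩)
      rw [show m⁻¹ * p * m = (O.D.el k)⁻¹ * (h⁻¹ * p * h⁻¹⁻¹) * O.D.el k by rw [hm]; group, ← hqe]
      rw [show (O.D.el k)⁻¹ * (O.D.el k * q * (O.D.el k)⁻¹) * O.D.el k = q by group]
      exact hq
    refine ⟨m, fun p hp => ?_, ?_⟩
    · obtain ⟨q, hq⟩ := Finite.surjective_of_injective (f := fun q : E => (⟨m⁻¹ * q * m, hback q q.2⟩ : E))
        (fun q q' e => Subtype.ext (mul_left_cancel (mul_right_cancel (congrArg Subtype.val e)))) ⟨p, hp⟩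
      have hq' : m⁻¹ * (q : G) * m = p := congrArg Subtype.val hq
      rw [← hq', show m * (m⁻¹ * (q : G) * m) * m⁻¹ = q by group]
      exact q.2
    · rw [hm, show h * O.D.el k * s * (h * O.D.el k)⁻¹ = h * (O.D.el k * s * (O.D.el k)⁻¹) * h⁻¹ by group,
        hks, mul_inv_cancel_right, hh]
  -- the normalizer
  set N := Subgroup.normalizer (E : Set G) with hN
  have hmN : ∀ n : G, n ∈ N ↔ ∀ p ∈ E, n * p * n⁻¹ ∈ E := fun n =>
    ⟨fun h p hp => (Subgroup.mem_normalizer_iff.1 h p).1 hp, fun h => Subgroup.mem_normalizer_fintype h⟩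
  have hNE : ∀ g, g * s = s * g → (g ∈ N ↔ O.D.code g ∈ NE) := by
    intro g hg
    rw [hmN, NE, List.mem_filter, List.all_eq_true]
    constructor
    · refine fun h => ⟨O.D.mem g hg, fun c hc => ?_⟩
      have hd := hEcode _ (h _ (helE c hc))
      simp only [bne_iff_ne, ne_eq, List.filter_eq_nil_iff, not_forall, not_not]
      refine ⟨_, hd.2, beq_iff_eq.2 ?_⟩
      rw [← O.D.mul _ _ hd.1 hg, inv_mul_cancel_right, O.D.mul _ _ hg (O.D.el_comm c),
        O.D.code_el (List.mem_filter.1 hc).1]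
    · rintro ⟨-, h⟩ p hp
      obtain ⟨hps, hpc⟩ := hEcode p hp
      have := h _ hpc
      simp only [bne_iff_ne, ne_eq, List.filter_eq_nil_iff, not_forall, not_not] at this
      obtain ⟨d, hd, hde⟩ := this
      have e : g * p * g⁻¹ = O.D.el d := by
        rw [mul_inv_eq_iff_eq_mul]
        refine O.D.inj _ _ (Coded.comm_mul hg hps) (Coded.comm_mul (O.D.el_comm d) hg) ?_
        rw [O.D.mul _ _ hg hps, O.D.mul _ _ (O.D.el_comm d) hg, O.D.code_el (List.mem_filter.1 hd).1,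
          beq_iff_eq.1 hde]
      rw [e]; exact helE d hd
  have hEN : E ≤ N := Subgroup.le_normalizer
  have hNEel : ∀ c ∈ NE, O.D.el c ∈ N := fun c hc => by
    rw [hNE _ (O.D.el_comm c), O.D.code_el (List.mem_filter.1 hc).1]; exact hc
  let z : N := ⟨s, hEN hsE⟩
  have hst : Nat.card (Subgroup.centralizer ({z} : Set N)) = 64 := by
    have hm : ∀ n : N, n ∈ Subgroup.centralizer ({z} : Set N) ↔ (n : G) * s = s * (n : G) := fun n => by
      rw [Subgroup.mem_centralizer_singleton_iff]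
      exact ⟨fun h => congrArg Subtype.val h, fun h => Subtype.ext h⟩
    rw [← NE_length, ← List.toFinset_card_of_nodup (show NE.Nodup from L_nodup.filter _), ← Nat.card_eq_finsetCard]
    refine Nat.card_eq_of_bijective (fun g => ⟨O.D.code (g.1 : G), List.mem_toFinset.2
      ((hNE _ ((hm _).1 g.2)).1 g.1.2)⟩) ⟨?_, ?_⟩
    · intro g h e
      exact Subtype.ext (Subtype.ext (O.D.inj _ _ ((hm _).1 g.2) ((hm _).1 h.2) (congrArg Subtype.val e)))
    · rintro ⟨c, hc⟩
      have hc' := List.mem_toFinset.1 hc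
      exact ⟨⟨⟨O.D.el c, hNEel c hc'⟩, (hm _).2 (O.D.el_comm c)⟩,
        Subtype.ext (O.D.code_el (List.mem_filter.1 hc').1)⟩
  have horb : Nat.card {y : N // IsConj z y} = 15 := by
    have h15 : Nat.card {g : E // g ≠ 1} = 15 := by
      haveI := Fintype.ofFinite E
      rw [Nat.card_eq_fintype_card] at hcard ⊢
      rw [Fintype.card_subtype_compl, Fintype.card_subtype_eq, hcard]
    rw [← h15]
    have hin : ∀ y : N, IsConj z y → (y : G) ∈ E ∧ (y : G) ≠ 1 := by
      intro y hy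
      obtain ⟨n, rfl⟩ := isConj_iff.1 hy
      exact ⟨(hmN n).1 n.2 s hsE, fun e => O.sne (conj_eq_one_iff.1 e)⟩
    refine Nat.card_eq_of_bijective (fun y => ⟨⟨(y.1 : G), (hin _ y.2).1⟩,
      fun e => (hin _ y.2).2 (congrArg Subtype.val e)⟩) ⟨?_, ?_⟩
    · intro g h e
      exact Subtype.ext (Subtype.ext (congrArg (fun v : {g : E // g ≠ 1} => (v.1 : G)) e))
    · rintro ⟨⟨e, he⟩, he1⟩
      obtain ⟨n, hn, hne⟩ := trans e he fun h => he1 (Subtype.ext h)
      exact ⟨⟨⟨n, (hmN n).2 hn⟩ * z * ⟨n, (hmN n).2 hn⟩⁻¹, isConj_iff.2 ⟨_, rfl⟩⟩,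
        Subtype.ext (Subtype.ext hne)⟩
  have hcN : Nat.card N = 960 := by
    have h := CfsgLib.Invol.card_conjugates_mul z
    rw [horb, hst] at h
    omega
  set EN := E.subgroupOf N with hENd
  haveI : EN.Normal := ⟨fun p hp n => (hmN n).1 n.2 p hp⟩
  have hEN16 : Nat.card EN = 16 := by
    rw [hENd, Nat.card_congr (Subgroup.subgroupOfEquivOfLe hEN).toEquiv, hcard]
  have hM : Nat.card (N ⧸ EN) = 60 := by
    have h := EN.card_mul_index
    rw [Subgroup.index_eq_card, hEN16, hcN] at h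
    omega
  set π := QuotientGroup.mk' EN
  set S := Subgroup.centralizer ({z} : Set N) with hS
  have hmS : ∀ n : N, n ∈ S → (n : G) * s = s * (n : G) ∧ O.D.code (n : G) ∈ NE := fun n hn => by
    have h := congrArg Subtype.val (Subgroup.mem_centralizer_singleton_iff.1 hn)
    exact ⟨h, (hNE _ h).1 n.2⟩
  have hES : EN ≤ S := fun n hn => Subgroup.mem_centralizer_singleton_iff.2 (Subtype.ext (hEcomm _ hn s hsE))
  have hker : π.ker = EN := QuotientGroup.ker_mk' EN
  set V := S.map π with hV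
  have hVc : Nat.card V = 4 := by
    have h1 := Subgroup.card_mul_index (π.ker.subgroupOf S)
    rw [Nat.card_congr (Subgroup.subgroupOfEquivOfLe (hker.le.trans hES)).toEquiv, hker, hEN16, hst] at h1
    have h2 : (π.ker.subgroupOf S).index = Nat.card V := by
      rw [show π.ker.subgroupOf S = (π.comp S.subtype).ker from MonoidHom.comap_ker π S.subtype,
        Subgroup.index_ker, MonoidHom.range_comp, Subgroup.range_subtype]
    rw [hker] at h2
    omega
  have hsqV : ∀ p ∈ V, p * p = 1 := by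
    rintro _ ⟨n, hn, rfl⟩
    rw [← map_mul, ← MonoidHom.mem_ker, hker, hENd, Subgroup.mem_subgroupOf, Subgroup.coe_mul,
      hcE _ (Coded.comm_mul (hmS n hn).1 (hmS n hn).1), O.D.mul _ _ (hmS n hn).1 (hmS n hn).1]
    exact NE_sq _ (hmS n hn).2
  have hcommV : ∀ p ∈ V, ∀ q ∈ V, p * q = q * p := by
    intro p hp q hq
    have e : p⁻¹ = p := inv_eq_of_mul_eq_one_right (hsqV p hp)
    have e' : q⁻¹ = q := inv_eq_of_mul_eq_one_right (hsqV q hq)
    have e'' : (p * q)⁻¹ = p * q := inv_eq_of_mul_eq_one_right (hsqV _ (mul_mem hp hq))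
    rw [← e'', mul_inv_rev, e, e']
  have hNV : ∀ m, (∀ p ∈ V, m * p * m⁻¹ ∈ V) → m ∈ V := by
    intro m hm
    obtain ⟨n, rfl⟩ := QuotientGroup.mk'_surjective EN m
    refine ⟨n, Subgroup.mem_centralizer_singleton_iff.2 (Subtype.ext ?_), rfl⟩
    set y := (n : G) * s * (n : G)⁻¹ with hy
    obtain ⟨hys, hyc⟩ := hEcode y ((hmN n).1 n.2 s hsE)
    have hfix : ∀ k ∈ NE, mulC k (O.D.code y) = mulC (O.D.code y) k := by
      intro k hk
      have hkS : (⟨O.D.el k, hNEel k hk⟩ : N) ∈ S :=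
        Subgroup.mem_centralizer_singleton_iff.2 (Subtype.ext (O.D.el_comm k))
      obtain ⟨l, hl, hle⟩ : ∃ l ∈ S, n * l * n⁻¹ = ⟨O.D.el k, hNEel k hk⟩ := by
        have hsurj : ∀ q ∈ V, ∃ p ∈ V, π n * p * (π n)⁻¹ = q := fun q hq => by
          obtain ⟨p, hp⟩ := Finite.surjective_of_injective
            (f := fun p : V => (⟨π n * p * (π n)⁻¹, hm p p.2⟩ : V))
            (fun p p' e => Subtype.ext (mul_left_cancel (mul_right_cancel (congrArg Subtype.val e)))) ⟨q, hq⟩
          exact ⟨p, p.2, congrArg Subtype.val hp⟩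
        obtain ⟨_, ⟨p, hp, rfl⟩, hpe⟩ := hsurj _ ⟨_, hkS, rfl⟩
        rw [← map_inv, ← map_mul, ← map_mul, eq_comm, ← mul_inv_eq_one, ← map_inv, ← map_mul,
          ← MonoidHom.mem_ker, hker] at hpe
        refine ⟨n⁻¹ * ⟨O.D.el k, hNEel k hk⟩ * n, ?_, by group⟩
        set K : N := ⟨O.D.el k, hNEel k hk⟩
        have e : n⁻¹ * K * n = n⁻¹ * (K * (n * p * n⁻¹)⁻¹) * n⁻¹⁻¹ * p := by group
        rw [e]
        exact mul_mem (hES ((inferInstance : EN.Normal).conj_mem _ hpe _)) hp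
      have h := congrArg Subtype.val hle
      simp only [Subgroup.coe_mul, Subgroup.coe_inv] at h
      have hc : O.D.el k * y = y * O.D.el k := by
        rw [← h, hy]; exact ((Commute.conj_iff (n : G)).2 (hmS l hl).1).eq
      have h2 := (O.D.com_iff (O.D.el_comm k) hys).2 hc
      rwa [O.D.code_el (List.mem_filter.1 hk).1] at h2
    rcases NE_fix _ hyc hfix with h | h
    · exact absurd (conj_eq_one_iff.1 ((O.D.eq_one_iff hys).1 h)) O.sne
    · exact mul_inv_eq_iff_eq_mul.1 (O.D.inj _ _ hys rfl (h.trans O.code_s.symm))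
  obtain ⟨f, hf, v, hv, hv1, hvf⟩ := no_order_five hM V hVc hcommV hsqV hNV
  obtain ⟨n, rfl⟩ := QuotientGroup.mk'_surjective EN f
  obtain ⟨l, hl, rfl⟩ := hv
  obtain ⟨hls, hlc⟩ := hmS l hl
  have hlE : O.D.code (l : G) ∉ E16 := fun h => hv1 (by
    rw [← MonoidHom.mem_ker, hker, hENd, Subgroup.mem_subgroupOf]
    exact (hcE _ hls).2 h)
  have h4 := (NE_fix_four _ hlc).resolve_left hlE
  set Fx := E16.filter fun c => mulC (O.D.code (l : G)) c == mulC c (O.D.code (l : G))
  have hfixn : ∀ p ∈ E, (l : G) * p = p * (l : G) →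
      (l : G) * ((n : G) * p * (n : G)⁻¹) = (n : G) * p * (n : G)⁻¹ * (l : G) := by
    intro p hp hlp
    have hr : (l * n) * (n * l)⁻¹ ∈ EN := by
      rw [← hker, MonoidHom.mem_ker, map_mul, map_inv, map_mul, map_mul, hvf, mul_inv_cancel]
    set e := (((l * n) * (n * l)⁻¹ : N) : G) with he
    have hcom := hEcomm e hr _ ((hmN n).1 n.2 p hp)
    have eln : (l : G) * (n : G) = e * ((n : G) * (l : G)) := by
      rw [he]; simp only [Subgroup.coe_mul, Subgroup.coe_inv]; group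
    refine mul_inv_eq_iff_eq_mul.1 ?_
    calc (l : G) * ((n : G) * p * (n : G)⁻¹) * (l : G)⁻¹
        = (l : G) * (n : G) * p * ((l : G) * (n : G))⁻¹ := by group
      _ = e * ((n : G) * ((l : G) * p * (l : G)⁻¹) * (n : G)⁻¹) * e⁻¹ := by rw [eln]; group
      _ = e * ((n : G) * p * (n : G)⁻¹) * e⁻¹ := by rw [hlp, mul_inv_cancel_right]
      _ = _ := by rw [hcom, mul_inv_cancel_right]
  have horbit : ∀ i : ℕ, ((n ^ i : N) : G) * s * ((n ^ i : N) : G)⁻¹ ∈ E ∧
      (l : G) * (((n ^ i : N) : G) * s * ((n ^ i : N) : G)⁻¹) =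
        ((n ^ i : N) : G) * s * ((n ^ i : N) : G)⁻¹ * (l : G) := by
    intro i
    induction i with
    | zero => simpa using ⟨hsE, hls⟩
    | succ i ih =>
      rw [pow_succ', Subgroup.coe_mul, show (n : G) * ((n ^ i : N) : G) * s * ((n : G) * ((n ^ i : N) : G))⁻¹ =
        (n : G) * (((n ^ i : N) : G) * s * ((n ^ i : N) : G)⁻¹) * (n : G)⁻¹ by group]
      exact ⟨(hmN n).1 n.2 _ ih.1, hfixn _ ih.1 ih.2⟩
  let ψ : Fin 5 → {c // c ∈ Fx.toFinset} := fun i =>
    ⟨O.D.code (((n ^ (i : ℕ) : N) : G) * s * ((n ^ (i : ℕ) : N) : G)⁻¹), by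
      refine List.mem_toFinset.2 (List.mem_filter.2 ⟨(hEcode _ (horbit i).1).2, beq_iff_eq.2 ?_⟩)
      exact (O.D.com_iff hls (hEcode _ (horbit i).1).1).2 (horbit i).2⟩
  have hψ : Function.Injective ψ := by
    intro i j e
    have e1 := O.D.inj _ _ (hEcode _ (horbit i).1).1 (hEcode _ (horbit j).1).1 (congrArg Subtype.val e)
    set r : N := (n ^ (j : ℕ))⁻¹ * n ^ (i : ℕ) with hr
    have hrS : r ∈ S := by
      refine Subgroup.mem_centralizer_singleton_iff.2 (Subtype.ext ?_)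
      show (r : G) * s = s * (r : G)
      rw [hr, Subgroup.coe_mul, Subgroup.coe_inv]
      refine mul_inv_eq_iff_eq_mul.1 ?_
      calc _ = ((n ^ (j : ℕ) : N) : G)⁻¹ * (((n ^ (i : ℕ) : N) : G) * s * ((n ^ (i : ℕ) : N) : G)⁻¹) *
            ((n ^ (j : ℕ) : N) : G) := by group
        _ = s := by rw [e1]; group
    have h2 := hsqV _ ⟨r, hrS, rfl⟩
    rw [hr, map_mul, map_inv, map_pow, map_pow, ← zpow_natCast, ← zpow_natCast, ← zpow_neg, ← zpow_add,
      ← zpow_add] at h2
    have h3 := orderOf_dvd_iff_zpow_eq_one.2 h2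
    rw [hf] at h3
    obtain ⟨k, hk⟩ := h3
    apply Fin.ext
    have := i.isLt
    have := j.isLt
    omega
  have hle := Nat.card_le_card_of_injective ψ hψ
  rw [Nat.card_fin, Nat.card_eq_finsetCard] at hle
  have := List.toFinset_card_le Fx
  omega

end CfsgLib.ExtraThirtyTwo.Eight
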