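import Cfsg.Agent.Lib.ExtraThirtyTwo.Eight.Flags
import Cfsg.Agent.Lib.InvolChar.A8


/-!
# Four points and four planes give the alternating group of degree eight
-/

set_option autoImplicit false

noncomputable section

namespace CfsgLib.ExtraThirtyTwo.Eight

open CfsgLib.MTwelveInvol (mulC onec)
open CfsgLib.A8 (σ)
local notation "TT" => CfsgLib.A8.T
open Matrix

/-- A map of `SL₄(2)` from Steinberg relations. -/
theorem exists_hom_of_steinberg {G : Type*} [Group G] (y : Fin 4 → Fin 4 → G)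
    (hsq : ∀ i j, i ≠ j → y i j * y i j = 1)
    (h0 : ∀ i j k l, i ≠ j → k ≠ l → i ≠ l → j ≠ k → y i j * y k l = y k l * y i j)
    (h1 : ∀ i j k, i ≠ j → j ≠ k → i ≠ k → y i j * y j k * y i j = y i k * y j k) :
    ∃ f : SpecialLinearGroup (Fin 4) (ZMod 2) →* G,
      ∀ i j (t : SpecialLinearGroup (Fin 4) (ZMod 2)), i ≠ j →
        (t : Matrix (Fin 4) (Fin 4) (ZMod 2)) = TT i j → f t = y i j := by
  classical
  haveI : Fact (Nat.Prime 2) := ⟨Nat.prime_two⟩
  let S := SpecialLinearGroup (Fin 4) (ZMod 2)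
  let p : Fin 4 → Fin 4 → S × G := fun i j =>
    if h : i = j then 1 else (SpecialLinearGroup.transvection h 1, y i j)
  have p1 : ∀ i j, i ≠ j → (((p i j).1 : S) : Matrix (Fin 4) (Fin 4) (ZMod 2)) = TT i j := fun i j h => by
    simp only [p, dif_neg h]; rw [← CfsgLib.A8.T_eq h]; rfl
  have p2 : ∀ i j, i ≠ j → (p i j).2 = y i j := fun i j h => by simp [p, h]
  have pext : ∀ {q r : S × G}, (q.1 : Matrix (Fin 4) (Fin 4) (ZMod 2)) = r.1 → q.2 = r.2 → q = r :=
    fun h h' => Prod.ext (Subtype.ext h) h'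
  let H : Subgroup (S × G) := Subgroup.closure {g | ∃ i j, i ≠ j ∧ g = p i j}
  let x : Fin 4 → Fin 4 → ZMod 2 → ↥H := fun i j t =>
    if h : i = j ∨ t = 0 then 1 else
      ⟨p i j, Subgroup.subset_closure ⟨i, j, fun e => h (Or.inl e), rfl⟩⟩
  have x0 : ∀ i j, x i j 0 = 1 := fun i j => dif_pos (Or.inr rfl)
  have x1 : ∀ i j, i ≠ j → (x i j 1 : S × G) = p i j := fun i j h => by
    simp only [x]
    rw [dif_neg (by rintro (e | e); exacts [h e, one_ne_zero e])]
  have psq : ∀ i j, i ≠ j → p i j * p i j = 1 := fun i j h => pext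
    (by
      show ((p i j).1 : Matrix (Fin 4) (Fin 4) (ZMod 2)) * ((p i j).1 : Matrix (Fin 4) (Fin 4) (ZMod 2)) = 1
      rw [p1 i j h, CfsgLib.A8.T_sq i j h])
    (by rw [Prod.snd_mul, p2 i j h]; exact hsq i j h)
  have hC : CfsgLib.SLSteinberg.StComm x := by
    refine ⟨?_, ?_, ?_⟩
    · intro i j t v hij
      rcases CfsgLib.A8.zmod_two_cases t with rfl | rfl <;> rcases CfsgLib.A8.zmod_two_cases v with rfl | rfl
      · rw [add_zero, x0, one_mul]
      · rw [zero_add, x0, one_mul]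
      · rw [add_zero, x0, mul_one]
      · rw [show (1 : ZMod 2) + 1 = 0 from rfl, x0]
        apply Subtype.ext
        rw [Subgroup.coe_mul, x1 i j hij, psq i j hij]; rfl
    · intro i j k l hij hkl hil hjk t v
      rcases CfsgLib.A8.zmod_two_cases t with rfl | rfl <;> rcases CfsgLib.A8.zmod_two_cases v with rfl | rfl
      iterate 3 (first | (rw [x0]; exact Commute.one_left _) | (rw [x0 k l]; exact Commute.one_right _))
      refine Subtype.ext ?_
      rw [Subgroup.coe_mul, Subgroup.coe_mul, x1 i j hij, x1 k l hkl]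
      refine pext ?_ ?_
      · show ((p i j).1 : Matrix (Fin 4) (Fin 4) (ZMod 2)) * ((p k l).1 : Matrix (Fin 4) (Fin 4) (ZMod 2)) =
          ((p k l).1 : Matrix (Fin 4) (Fin 4) (ZMod 2)) * ((p i j).1 : Matrix (Fin 4) (Fin 4) (ZMod 2))
        rw [p1 i j hij, p1 k l hkl]
        exact CfsgLib.A8.T_comm0 i j k l hij hkl hil hjk
      · simp only [Prod.snd_mul, p2 i j hij, p2 k l hkl]
        exact h0 i j k l hij hkl hil hjk
    · intro i j k hij hjk hik t v
      rcases CfsgLib.A8.zmod_two_cases t with rfl | rfl <;> rcases CfsgLib.A8.zmod_two_cases v with rfl | rfl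
      · simp [x0]
      · simp [x0]
      · simp [x0]
      refine Subtype.ext ?_
      rw [show (1 : ZMod 2) * 1 = 1 from rfl, Subgroup.coe_mul, Subgroup.coe_mul, Subgroup.coe_inv,
        x1 i j hij, x1 j k hjk, inv_eq_of_mul_eq_one_right (psq i j hij), Subgroup.coe_mul, x1 i k hik,
        x1 j k hjk]
      refine pext ?_ ?_
      · show ((p i j).1 : Matrix (Fin 4) (Fin 4) (ZMod 2)) * ((p j k).1 : Matrix (Fin 4) (Fin 4) (ZMod 2)) *
            ((p i j).1 : Matrix (Fin 4) (Fin 4) (ZMod 2)) =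
          ((p i k).1 : Matrix (Fin 4) (Fin 4) (ZMod 2)) * ((p j k).1 : Matrix (Fin 4) (Fin 4) (ZMod 2))
        rw [p1 i j hij, p1 j k hjk, p1 i k hik]
        exact CfsgLib.A8.T_comm1 i j k hij hjk hik
      · simp only [Prod.snd_mul, p2 i j hij, p2 j k hjk, p2 i k hik]
        exact h1 i j k hij hjk hik
  have hR := hC.toRel (by decide)
  let φ : ↥H →* S := (MonoidHom.fst S G).comp H.subtype
  let ψ : ↥H →* G := (MonoidHom.snd S G).comp H.subtype
  have hφx : ∀ i j (t : ZMod 2), i ≠ j →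
      ((φ (x i j t) : S) : Matrix (Fin 4) (Fin 4) (ZMod 2)) = transvection i j t := by
    intro i j t hij
    rcases CfsgLib.A8.zmod_two_cases t with rfl | rfl
    · rw [x0, map_one, transvection_zero]; rfl
    · show (((x i j 1 : S × G)).1 : Matrix (Fin 4) (Fin 4) (ZMod 2)) = _
      rw [x1 i j hij, p1 i j hij, CfsgLib.A8.T_eq hij]
  have hgen : Subgroup.closure {g | ∃ i j, i ≠ j ∧ ∃ t, g = x i j t} = ⊤ := by
    rw [eq_top_iff]
    have : (⊤ : Subgroup ↥H) = Subgroup.closure ((fun g : ↥H => (g : S × G)) ⁻¹' {g | ∃ i j, i ≠ j ∧ g = p i j}) :=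
      (Subgroup.closure_closure_coe_preimage).symm
    rw [this, Subgroup.closure_le]
    rintro g ⟨i, j, hij, hg⟩
    exact Subgroup.subset_closure ⟨i, j, hij, 1, Subtype.ext (hg.trans (x1 i j hij).symm)⟩
  have hinj := CfsgLib.SLSteinberg.exists_hom x hR φ hφx hgen
  have hsurj : Function.Surjective φ := MonoidHom.range_eq_top.1
    (CfsgLib.Classical.SL_le_of_transvections _ fun i j hij c => ⟨x i j c, Subtype.ext (hφx i j c hij)⟩)
  let e : ↥H ≃* S := MulEquiv.ofBijective φ ⟨hinj, hsurj⟩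
  refine ⟨ψ.comp e.symm.toMonoidHom, fun i j t hij ht => ?_⟩
  have ht' : t = e (x i j 1) := Subtype.ext (ht.trans ((hφx i j 1 hij).trans (CfsgLib.A8.T_eq hij)).symm)
  subst ht'
  show ψ (e.symm (e (x i j 1))) = y i j
  rw [MulEquiv.symm_apply_apply]
  show ((x i j 1 : S × G)).2 = y i j
  rw [x1 i j hij, p2 i j hij]

/-- The alternating group of degree eight. -/
abbrev A8G : Type := alternatingGroup (Fin 8)

variable {G : Type*} [Group G] [Finite G] {s a b x u : G} {O : Oct s a b x u} (H : Two O)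
include H

theorem Two.frame_points : ∃ e h : Fin 4 → G, (∀ i, IsConj s (e i)) ∧ (∀ i, IsConj s (h i)) ∧
    (∀ i j, i ≠ j → Inc s a b x (e i) (h j)) ∧ (∀ i, ¬ Inc s a b x (e i) (h i)) ∧
    e 0 = s ∧ e 2 = b ∧ h 1 = a ∧ h 3 = s := by
  classical
  obtain ⟨hsA, haA, ha1A⟩ := O.gens_mem
  obtain ⟨hsB, hbB, hb1B⟩ := O.symm.gens_mem
  set a1 := x * a * x⁻¹ with ha1
  set b1 := x * b * x⁻¹ with hb1
  have ne : ∀ {p q : G} {c d : ℕ}, O.D.code p = c → O.D.code q = d → c ≠ d → p ≠ q := fun hp hq hn e =>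
    hn (hp.symm.trans ((congrArg O.D.code e).trans hq))
  have ha_1 : a ≠ 1 := ne O.code_a O.D.code_one (by decide +kernel)
  have hb_1 : b ≠ 1 := ne O.code_b O.D.code_one (by decide +kernel)
  have ha11 : a1 ≠ 1 := ne O.code_a1 O.D.code_one (by decide +kernel)
  have hb11 : b1 ≠ 1 := ne O.code_b1 O.D.code_one (by decide +kernel)
  have Kb := H.symm.K_Ea hbB hb_1
  have Kb1 := H.symm.K_Ea hb1B hb11
  have Ka := H.K_Ea haA ha_1
  have Ka1 := H.K_Ea ha1A ha11
  have com : ∀ {p q : G} {c d : ℕ}, p * s = s * p → q * s = s * q → O.D.code p = c → O.D.code q = d →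
      (mulC c d = mulC d c ↔ p * q = q * p) := fun hp hq e f => e ▸ f ▸ O.D.com_iff hp hq
  have i02 : Inc s a b x s s := ⟨s, IsConj.refl s, rfl, rfl⟩
  obtain ⟨g, hg, hgs, hga, hga1⟩ := O.Ea_basis H.hfa (y := a) (z := a1) (w := s) haA ha_1 ha1A ha11
    (ne O.code_a1 O.code_a (by decide +kernel)) hsA O.sne (ne O.code_s O.code_a (by decide +kernel))
    (ne O.code_s O.code_a1 (by decide +kernel))
    (ne O.code_s (show O.D.code (a * a1) = mulC ac a1c by
      rw [O.D.mul _ _ O.a_s O.a1_s, O.code_a, O.code_a1]) (by decide +kernel))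
  set e4 := g * b * g⁻¹ with he4
  have Ke4 : IsConj s e4 := Kb.trans (isConj_iff.2 ⟨g, rfl⟩)
  have loc := @Two.flag_local G _ _ s a b x u O H
  have I10 : Inc s a b x b1 s := (loc hsA O.sne hb1B hb11).2 O.b1_s.symm
  have I20 : Inc s a b x b s := (loc hsA O.sne hbB hb_1).2 O.b_s.symm
  have I13 : Inc s a b x b1 a1 := (loc ha1A ha11 hb1B hb11).2
    ((com O.a1_s O.b1_s O.code_a1 O.code_b1).1 (by decide +kernel))
  have I21 : Inc s a b x b a := (loc haA ha_1 hbB hb_1).2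
    ((com O.a_s O.b_s O.code_a O.code_b).1 (by decide +kernel))
  have N11 : ¬ Inc s a b x b1 a := fun h => absurd ((com O.a_s O.b1_s O.code_a O.code_b1).2
    ((loc haA ha_1 hb1B hb11).1 h)) (by decide +kernel)
  have N22 : ¬ Inc s a b x b a1 := fun h => absurd ((com O.a1_s O.b_s O.code_a1 O.code_b).2
    ((loc ha1A ha11 hbB hb_1).1 h)) (by decide +kernel)
  have I31 : Inc s a b x e4 a := hgs ▸ Inc.conj O Kb (IsConj.refl s) I20 g
  have I32 : Inc s a b x e4 a1 := hga ▸ Inc.conj O Kb Ka I21 g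
  have N33 : ¬ Inc s a b x e4 s := fun h => N22 (by
    have h' := Inc.conj O Ke4 (IsConj.refl s) h g⁻¹
    rwa [show g⁻¹ * e4 * g⁻¹⁻¹ = b by rw [he4]; group,
      show g⁻¹ * s * g⁻¹⁻¹ = a1 by rw [ha1, ← hga1]; group] at h')
  -- the fourth plane
  obtain ⟨v23, K23, p23, q23⟩ := I13
  obtain ⟨v43, K43, p43, q43⟩ := I32
  obtain ⟨W3, hW3, cW3, iW3⟩ := H.four Kb1 Kb (by rw [H.symm.pt_Ea hb1B hb11, H.symm.pt_Ea hbB hb_1])
  obtain ⟨W4, hW4, cW4, iW4⟩ := H.four K23 K43 (q23.trans q43.symm)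
  rw [p23] at hW4
  obtain ⟨z, hz3, hz4, hz1⟩ : ∃ z, z ∈ W3 ∧ z ∈ W4 ∧ z ≠ 1 := by
    by_contra hno
    push Not at hno
    set P := pt s a x b1
    let f : W3 × W4 → P := fun p => ⟨(p.1 : G) * (p.2 : G), mul_mem (hW3 p.1.2) (hW4 p.2.2)⟩
    have hf : Function.Injective f := by
      rintro ⟨p, q⟩ ⟨p', q'⟩ e
      have e' : (p : G) * q = p' * q' := congrArg Subtype.val e
      have h1 : (p' : G)⁻¹ * p = q' * (q : G)⁻¹ := by
        calc (p' : G)⁻¹ * p = (p' : G)⁻¹ * (p * q) * (q : G)⁻¹ := by group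
          _ = _ := by rw [e']; group
      have h2 := hno _ (mul_mem (inv_mem p'.2) p.2) (h1 ▸ mul_mem q'.2 (inv_mem q.2))
      have hp : (p' : G) = p := inv_mul_eq_one.1 h2
      rw [h1, mul_inv_eq_one] at h2
      exact Prod.ext (Subtype.ext hp.symm) (Subtype.ext h2.symm)
    have h := Nat.card_le_card_of_injective f hf
    have hP : Nat.card P = 8 := by
      show Nat.card (pt s a x b1) = 8
      rw [O.pt_eq (pk_spec Kb1), Subgroup.card_map_of_injective (MulAut.conj (pk s b1)).injective, O.card_Ea]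
    rw [Nat.card_prod, hP] at h
    have := Nat.mul_le_mul cW3 cW4
    omega
  obtain ⟨Kz, pz⟩ := H.pt_of_mem Kb1 (hW3 hz3) hz1
  have J1 : Inc s a b x b1 z := ⟨z, Kz, pz, rfl⟩
  have J2 : Inc s a b x b z := iW3 z hz3 hz1
  have J3 : Inc s a b x e4 z := by
    obtain ⟨v, hv, h1, h2⟩ := iW4 z hz4 hz1
    exact ⟨v, hv, h1.trans p43, h2⟩
  have J0 : ¬ Inc s a b x s z := by
    rintro ⟨v, hv, h1, h2⟩
    have hvE : v ∈ Ea s a x := by rw [← O.pt_s, ← h1]; exact O.pt_self hv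
    have hv1 : v ≠ 1 := fun e => by
      obtain ⟨k, hk⟩ := isConj_iff.1 hv
      exact O.sne (conj_eq_one_iff.1 (hk.trans e))
    have tr : ∀ w, Inc s a b x w z → Inc s a b x w v := fun w ⟨t, ht, t1, t2⟩ => ⟨t, ht, t1, t2.trans h2.symm⟩
    obtain ⟨hvs, hvc⟩ := O.mem_Ea.1 hvE
    have c1 := (com hvs O.b_s rfl O.code_b).2 ((loc hvE hv1 hbB hb_1).1 (tr _ J2))
    have c2 := (com hvs O.b1_s rfl O.code_b1).2 ((loc hvE hv1 hb1B hb11).1 (tr _ J1))
    rcases Ea_com_bb _ hvc c1 c2 with h | h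
    · exact hv1 ((O.D.eq_one_iff hvs).1 h)
    · obtain ⟨t, ht, t1, t2⟩ := J3
      exact N33 ⟨t, ht, t1, t2.trans (by rw [← h2, O.D.inj _ _ hvs rfl (h.trans O.code_s.symm)])⟩
  refine ⟨![s, b1, b, e4], ![z, a, a1, s], ?_, ?_, ?_, ?_, rfl, rfl, rfl, rfl⟩
  · intro i; fin_cases i
    exacts [IsConj.refl s, Kb1, Kb, Ke4]
  · intro i; fin_cases i
    exacts [Kz, Ka, Ka1, IsConj.refl s]
  · intro i j hij
    fin_cases i <;> fin_cases j <;> first | exact absurd rfl hij | skip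
    exacts [⟨a, Ka, (H.pt_Ea haA ha_1).trans O.pt_s.symm, rfl⟩, ⟨a1, Ka1, (H.pt_Ea ha1A ha11).trans O.pt_s.symm, rfl⟩,
      i02, J1, ⟨v23, K23, p23, q23⟩, I10, J2, I21, I20, J3, I31, ⟨v43, K43, p43, q43⟩]
  · intro i; fin_cases i
    exacts [J0, N11, N22, N33]

/-- The alternating group of degree eight inside, containing the centralizer of `s`. -/
theorem Two.exists_alt : ∃ f : A8G →* G, Function.Injective f ∧
    (∀ g : G, g * s = s * g → g ∈ f.range) ∧
    f ⟨σ 0 3, CfsgLib.A8.σ_sign 0 3⟩ = s ∧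
    f (⟨σ 0 3, CfsgLib.A8.σ_sign 0 3⟩ * ⟨σ 0 1, CfsgLib.A8.σ_sign 0 1⟩ * ⟨σ 2 3, CfsgLib.A8.σ_sign 2 3⟩) =
      third s a b := by
  classical
  obtain ⟨e, h, Ke, Kh, hI, hN, e0, e2, h1, h3⟩ := H.frame_points
  let y : Fin 4 → Fin 4 → G := fun i j =>
    if hij : i = j then 1 else Classical.choose (hI i j hij)
  have ys : ∀ i j, i ≠ j → IsConj s (y i j) ∧ pt s a x (y i j) = pt s a x (e i) ∧
      pt s b x (y i j) = pt s b x (h j) := fun i j hij => by
    simp only [y, dif_neg hij]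
    exact Classical.choose_spec (hI i j hij)
  have sq : ∀ i j, i ≠ j → y i j * y i j = 1 := fun i j hij => by
    obtain ⟨k, hk⟩ := isConj_iff.1 (ys i j hij).1
    rw [← hk, show k * s * k⁻¹ * (k * s * k⁻¹) = k * (s * s) * k⁻¹ by group, O.ss]; group
  have incs : ∀ {i j k l}, i ≠ j → k ≠ l →
      (Inc s a b x (y k l) (y i j) ↔ Inc s a b x (e k) (h j)) := fun {i j k l} hij hkl => by
    simp only [Inc, (ys i j hij).2.2, (ys k l hkl).2.1]
  have conn : ∀ {i j k l}, i ≠ j → k ≠ l → i ≠ l →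
      (pt s a x (y i l) = pt s a x (y i j) ∧ pt s b x (y i l) = pt s b x (y k l)) := fun {i j k l} hij hkl hil =>
    ⟨(ys i l hil).2.1.trans (ys i j hij).2.1.symm, (ys i l hil).2.2.trans (ys k l hkl).2.2.symm⟩
  have c0 : ∀ i j k l, i ≠ j → k ≠ l → i ≠ l → j ≠ k → y i j * y k l = y k l * y i j := by
    intro i j k l hij hkl hil hjk
    obtain ⟨t1, t2⟩ := conn hij hkl hil
    exact (H.relation (ys i j hij).1 (ys k l hkl).1 (ys i l hil).1 t1 t2).1
      ((incs hij hkl).2 (hI k j (Ne.symm hjk)))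
  have c1 : ∀ i j k, i ≠ j → j ≠ k → i ≠ k → y i j * y j k * y i j = y i k * y j k := by
    intro i j k hij hjk hik
    obtain ⟨t1, t2⟩ := conn hij hjk hik
    have hv := (H.relation (ys i j hij).1 (ys j k hjk).1 (ys i k hik).1 t1 t2).2
      (fun hh => hN j ((incs hij hjk).1 hh))
    calc y i j * y j k * y i j = y i j * y j k * (y i j * y j k) * y j k := by
          rw [mul_assoc (y i j * y j k) (y i j * y j k) (y j k), mul_assoc (y i j) (y j k) (y j k),
            sq j k hjk, mul_one]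
      _ = _ := by rw [hv]
  obtain ⟨f0, hf0⟩ := exists_hom_of_steinberg y sq c0 c1
  obtain ⟨θ, hθ⟩ := CfsgLib.A8.sl4_equiv_spec
  have hg : ∀ i j (hij : i ≠ j), (f0.comp θ.symm.toMonoidHom) ⟨σ i j, CfsgLib.A8.σ_sign i j⟩ = y i j := by
    intro i j hij
    set t : SpecialLinearGroup (Fin 4) (ZMod 2) := SpecialLinearGroup.transvection hij 1
    have ht : (t : Matrix (Fin 4) (Fin 4) (ZMod 2)) = TT i j := by rw [← CfsgLib.A8.T_eq hij]; rfl
    have : θ t = ⟨σ i j, CfsgLib.A8.σ_sign i j⟩ := Subtype.ext (hθ i j t hij ht)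
    show f0 (θ.symm _) = _
    rw [← this, MulEquiv.symm_apply_apply, hf0 i j t hij ht]
  set f := f0.comp θ.symm.toMonoidHom
  have f03 : f ⟨σ 0 3, CfsgLib.A8.σ_sign 0 3⟩ = s := by
    rw [hg 0 3 (by decide)]
    obtain ⟨k, p1, p2⟩ := ys 0 3 (by decide)
    exact H.flag_inj k (IsConj.refl s) (by rw [p1, e0]) (by rw [p2, h3])
  have f01 : f ⟨σ 0 1, CfsgLib.A8.σ_sign 0 1⟩ = a := by
    rw [hg 0 1 (by decide)]
    obtain ⟨k, p1, p2⟩ := ys 0 1 (by decide)
    have ha1 : a ≠ 1 := fun e => absurd (O.code_a.symm.trans ((congrArg O.D.code e).trans O.D.code_one))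
      (by decide +kernel)
    exact H.flag_inj k (H.K_Ea O.gens_mem.2.1 ha1) (by rw [p1, e0, O.pt_s, H.pt_Ea O.gens_mem.2.1 ha1])
      (by rw [p2, h1])
  have f23 : f ⟨σ 2 3, CfsgLib.A8.σ_sign 2 3⟩ = b := by
    rw [hg 2 3 (by decide)]
    obtain ⟨k, p1, p2⟩ := ys 2 3 (by decide)
    have hb1 : b ≠ 1 := fun e => absurd (O.code_b.symm.trans ((congrArg O.D.code e).trans O.D.code_one))
      (by decide +kernel)
    exact H.flag_inj k (H.symm.K_Ea O.symm.gens_mem.2.1 hb1) (by rw [p1, e2])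
      (by rw [p2, h3, O.symm.pt_s, H.symm.pt_Ea O.symm.gens_mem.2.1 hb1])
  have hinj : Function.Injective f := by
    haveI : IsSimpleGroup A8G := alternatingGroup.isSimpleGroup (by simp)
    refine (MonoidHom.ker_eq_bot_iff f).1 ((f.normal_ker).eq_bot_or_eq_top.resolve_right fun htop => O.sne ?_)
    rw [← f03]
    exact MonoidHom.mem_ker.1 (htop ▸ Subgroup.mem_top _)
  refine ⟨f, hinj, ?_, f03, ?_⟩
  · -- the centralizer is the image of that of the permutation
    set z : A8G := ⟨σ 0 3, CfsgLib.A8.σ_sign 0 3⟩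
    have hz : σ 0 3 = perm 0 := by decide +kernel
    have hev : ∀ l : List ℕ, (∀ i ∈ l, i < 7) →
        Equiv.Perm.sign (ev perm l) = 1 ∧ ev perm l * perm 0 = perm 0 * ev perm l := by
      intro l
      induction l with
      | nil => intro _; exact ⟨map_one _, by rw [ev_nil, one_mul, mul_one]⟩
      | cons i l ih =>
        intro hl
        obtain ⟨i1, i2⟩ := ih fun j hj => hl j (List.mem_cons_of_mem _ hj)
        obtain ⟨j1, j2⟩ := perm_even i (hl i List.mem_cons_self)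
        exact ⟨by rw [ev_cons, map_mul, j1, i1, one_mul], by
          rw [ev_cons, mul_assoc, i2, ← mul_assoc, j2, mul_assoc]⟩
    have hlt : ∀ w ∈ allWords, ∀ i ∈ w, i < 7 := by decide +kernel
    let ι : allWords.toFinset → Subgroup.centralizer ({s} : Set G) := fun w =>
      ⟨f ⟨ev perm w.1, (hev w.1 (hlt _ (List.mem_toFinset.1 w.2))).1⟩, by
        rw [Subgroup.mem_centralizer_singleton_iff, ← f03, ← map_mul, ← map_mul]
        congr 1
        refine Subtype.ext ?_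
        rw [Subgroup.coe_mul, Subgroup.coe_mul]
        show ev perm w.1 * σ 0 3 = σ 0 3 * ev perm w.1
        rw [hz]
        exact (hev w.1 (hlt _ (List.mem_toFinset.1 w.2))).2⟩
    have hι : Function.Bijective ι := (Nat.bijective_iff_injective_and_card ι).2
      ⟨fun w w' ee => by
        have e1 : ev perm w.1 = ev perm w'.1 := congrArg Subtype.val (hinj (congrArg Subtype.val ee))
        have e2 := congrArg pcode e1
        rw [evC_eq perm_code, evC_eq perm_code] at e2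
        exact Subtype.ext (List.inj_on_of_nodup_map eval_nodup (List.mem_toFinset.1 w.2)
          (List.mem_toFinset.1 w'.2) e2), by
        rw [Nat.card_eq_finsetCard, List.toFinset_card_of_nodup shape_check.2.2.2.1, shape_check.2.2.1,
          O.card_cent]⟩
    intro g hgs
    obtain ⟨w, hw⟩ := hι.2 ⟨g, Subgroup.mem_centralizer_singleton_iff.2 hgs⟩
    exact ⟨_, congrArg Subtype.val hw⟩
  · rw [map_mul, map_mul, f03, f01, f23]; rfl

end CfsgLib.ExtraThirtyTwo.Eight
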