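import Cfsg.Agent.Lib.ExtraThirtyTwo.Quotient
import Cfsg.Agent.Lib.ExtraThirtyTwo.Eight.Block
import Cfsg.Agent.Lib.ExtraThirtyTwo.Eight.Single
import Cfsg.Agent.Lib.ExtraThirtyTwo.Eight.Steinberg

/-!
# The cases of a frame of the first type
-/

set_option autoImplicit false

noncomputable section

namespace CfsgLib.ExtraThirtyTwo.Eight

open CfsgLib.MTwelveInvol (mulC onec)
open CfsgLib.A8 (σ)

variable {G : Type*} [Group G] [Finite G] {s a b x u : G}

/-- The first conclusion. -/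
def EightQuot (G : Type*) [Group G] : Prop :=
  ∃ (N : Subgroup G) (_ : N.Normal), IsMulCommutative N ∧ (∀ n ∈ N, n ^ 2 = 1) ∧ Nat.card N = 8 ∧
    Nonempty (G ⧸ N ≃* Matrix.ProjectiveSpecialLinearGroup (Fin 3) (ZMod 2))

/-- The alternating group of degree eight holds a whole centralizer of an involution. -/
def AltBranch (G : Type*) [Group G] : Prop :=
  ∃ (Φ : A8G →* G) (z d : A8G), Function.Injective Φ ∧
    (z : Equiv.Perm (Fin 8)).cycleType = {2, 2, 2, 2} ∧ (d : Equiv.Perm (Fin 8)).cycleType = {2, 2} ∧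
    (∀ g : G, g * Φ z = Φ z * g → g ∈ Φ.range) ∧ ¬ IsConj (Φ z) (Φ d)

theorem σ_types : (σ 0 3).cycleType = {2, 2, 2, 2} ∧ (σ 0 3 * σ 0 1 * σ 2 3).cycleType = {2, 2} := by
  decide +kernel

theorem Oct.third_third (O : Oct s a b x u) : third s a (third s a b) = b := by
  have ha2 : a * a = 1 := (O.D.sq_one_iff O.a_s).1 (by rw [O.code_a]; decide +kernel)
  calc third s a (third s a b) = s * (a * s) * a * b := by simp only [third, mul_assoc]
    _ = (s * s) * (a * a) * b := by rw [O.a_s]; simp only [mul_assoc]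
    _ = b := by rw [O.ss, ha2, one_mul, one_mul]

theorem Two.altBranch {O : Oct s a b x u} (H : Two O) : AltBranch G := by
  obtain ⟨f, hf, hC, h1, h2⟩ := H.exists_alt
  refine ⟨f, ⟨σ 0 3, CfsgLib.A8.σ_sign 0 3⟩,
    ⟨σ 0 3, CfsgLib.A8.σ_sign 0 3⟩ * ⟨σ 0 1, CfsgLib.A8.σ_sign 0 1⟩ * ⟨σ 2 3, CfsgLib.A8.σ_sign 2 3⟩,
    hf, ?_, ?_, ?_, ?_⟩
  · exact σ_types.1
  · rw [Subgroup.coe_mul, Subgroup.coe_mul]; exact σ_types.2
  · intro g hg; rw [h1] at hg; exact hC g hg
  · rw [h1, h2]; exact H.hfc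

theorem One.eightQuot {O : Oct s a b x u} (H : One O) : EightQuot G := by
  obtain ⟨hn, hG⟩ := H.normal
  have h2 : ∀ n ∈ Ea s a x, n ^ 2 = 1 := fun n hn => by rw [sq]; exact O.Ea_sq hn
  obtain ⟨hc, hq⟩ := quotient_psl (Ea s a x) h2 O.card_Ea
    (fun k hk => O.Ea_self fun p hp => (Subgroup.mem_centralizer_iff.1 hk p hp).symm) hG
  exact ⟨_, hn, hc, h2, O.card_Ea, hq⟩

theorem Oct.classify_two (O : Oct s a b x u) (hfa : IsConj s a) (hfb : IsConj s b)
    (hfc : ¬ IsConj s (third s a b)) : AltBranch G := by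
  rcases O.pairing hfa with ⟨h1, h2⟩ | ⟨h1, h2⟩
  · exact (Two.mk (O := O) hfa hfb hfc h1 h2).altBranch
  · refine (Two.mk (O := O.twist) hfa hfb hfc h1 ?_).altBranch
    rwa [mul_assoc, O.ss, mul_one]

theorem Oct.classify_a (O : Oct s a b x u) (hfa : IsConj s a) : EightQuot G ∨ AltBranch G := by
  by_cases hfb : IsConj s b
  · by_cases hfc : IsConj s (third s a b)
    · exact (O.not_all hfa hfb hfc).elim
    · exact Or.inr (O.classify_two hfa hfb hfc)
  · by_cases hfc : IsConj s (third s a b)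
    · exact Or.inr (O.toThird.classify_two hfa hfc (by rwa [O.third_third]))
    · left
      rcases O.pairing hfa with ⟨h1, h2⟩ | ⟨h1, h2⟩
      · exact (One.mk (O := O) hfa hfb hfc h1 h2).eightQuot
      · refine (One.mk (O := O.twist) hfa hfb hfc h1 ?_).eightQuot
        rwa [mul_assoc, O.ss, mul_one]

theorem Oct.classify (O : Oct s a b x u) (hf : Fused s a b) : EightQuot G ∨ AltBranch G := by
  rcases hf with h | h | h
  · exact O.classify_a h
  · exact O.symm.classify_a h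
  · exact O.toThird.symm.classify_a h

end CfsgLib.ExtraThirtyTwo.Eight
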